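import Groth.Agent.NoethApproxLib.Mor

/-!
# Closed immersions as limits of closed immersions of finite presentation
-/

set_option autoImplicit false

universe u

open CategoryTheory CategoryTheory.Limits AlgebraicGeometry Opposite

namespace NoethApproxLib

noncomputable section

variable {X Y : Scheme.{u}} (B : Approx Y) (ι : X ⟶ Y) [IsClosedImmersion ι]

/-- The image of `X` at a stage. -/
abbrev imgι (j : B.J) : (ι ≫ B.proj j).image ⟶ B.obj j := (ι ≫ B.proj j).imageι

theorem quasiCompact_comp_proj (j : B.J) : QuasiCompact (ι ≫ B.proj j) :=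
  haveI := B.isAffineHom_proj j
  inferInstance

theorem ker_le_ker_map {i j : B.J} (h : i ≤ j) :
    (imgι B ι i).ker ≤ (imgι B ι j ≫ B.map h).ker := by
  haveI := quasiCompact_comp_proj B ι i
  haveI := quasiCompact_comp_proj B ι j
  haveI : IsAffineHom (B.map h) := B.affine _
  rw [show (imgι B ι i).ker = (ι ≫ B.proj i).ker from Scheme.IdealSheafData.ker_subschemeι _]
  intro U a ha
  have hV : IsAffineOpen (B.map h ⁻¹ᵁ U.1) := U.2.preimage _
  rw [Scheme.Hom.ker_apply, RingHom.mem_ker] at ha ⊢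
  have h1 : (B.map h).app U.1 a ∈ (ι ≫ B.proj j).ker.ideal ⟨B.map h ⁻¹ᵁ U.1, hV⟩ := by
    rw [Scheme.Hom.ker_apply, RingHom.mem_ker]
    have e : ((ι ≫ B.proj j) ≫ B.map h).app U.1 a = 0 := by
      rw [Scheme.Hom.congr_app ((Category.assoc _ _ _).trans (congrArg (ι ≫ ·) (B.proj_map h))) U.1]
      show (X.presheaf.map _) ((ι ≫ B.proj i).app U.1 a) = 0
      rw [ha, map_zero]
    exact e
  rw [← Scheme.IdealSheafData.ker_subschemeι (ι ≫ B.proj j).ker, Scheme.Hom.ker_apply,
    RingHom.mem_ker] at h1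
  exact h1

/-- The transition maps of the images. -/
def imgMap {i j : B.J} (h : i ≤ j) : (ι ≫ B.proj j).image ⟶ (ι ≫ B.proj i).image :=
  IsClosedImmersion.lift (imgι B ι i) (imgι B ι j ≫ B.map h) (ker_le_ker_map B ι h)

@[reassoc]
theorem imgMap_ι {i j : B.J} (h : i ≤ j) :
    imgMap B ι h ≫ imgι B ι i = imgι B ι j ≫ B.map h := IsClosedImmersion.lift_fac _ _ _

/-- The closed subscheme of finite presentation at a stage. -/
abbrev closedAt (j : B.J) : Scheme.{u} := pullback (imgι B ι j) (B.proj j)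

abbrev closedι (j : B.J) : closedAt B ι j ⟶ Y := pullback.snd _ _

set_option backward.isDefEq.respectTransparency false in
theorem lfp_closedι (j : B.J) : LocallyOfFinitePresentation (closedι B ι j) := by
  haveI := B.isLocallyNoetherian (op j)
  haveI : LocallyOfFinitePresentation (imgι B ι j) :=
    LocallyOfFinitePresentation.iff_locallyOfFiniteType.mpr inferInstance
  exact MorphismProperty.pullback_snd _ _ this

instance isClosedImmersion_closedι (j : B.J) : IsClosedImmersion (closedι B ι j) :=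
  inferInstance

def closedMap {i j : B.J} (h : i ≤ j) : closedAt B ι j ⟶ closedAt B ι i :=
  pullback.lift (pullback.fst _ _ ≫ imgMap B ι h) (pullback.snd _ _) (by
    rw [Category.assoc, imgMap_ι, pullback.condition_assoc, B.proj_map])

theorem closedMap_ι {i j : B.J} (h : i ≤ j) : closedMap B ι h ≫ closedι B ι i = closedι B ι j :=
  pullback.lift_snd _ _ _

theorem isClosedImmersion_closedMap {i j : B.J} (h : i ≤ j) :
    IsClosedImmersion (closedMap B ι h) := by
  haveI : IsClosedImmersion (closedMap B ι h ≫ closedι B ι i) := by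
    rw [closedMap_ι]; infer_instance
  exact IsClosedImmersion.of_comp _ (closedι B ι i)

/-- The inverse system of closed subschemes of finite presentation. -/
def closedDiag : B.Jᵒᵖ ⥤ Over Y where
  obj j := Over.mk (closedι B ι j.unop)
  map a := Over.homMk (closedMap B ι (leOfHom a.unop)) (closedMap_ι B ι _)
  map_id j := Over.OverMorphism.ext ((cancel_mono (closedι B ι j.unop)).mp
    ((closedMap_ι B ι _).trans (Category.id_comp _).symm))
  map_comp {i j k} a b := Over.OverMorphism.ext ((cancel_mono (closedι B ι k.unop)).mp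
    ((closedMap_ι B ι _).trans (((Category.assoc _ _ _).trans
      ((congrArg (closedMap B ι (leOfHom a.unop) ≫ ·) (closedMap_ι B ι (leOfHom b.unop))).trans
        (closedMap_ι B ι (leOfHom a.unop)))).symm)))

def toClosedAt (j : B.J) : X ⟶ closedAt B ι j :=
  pullback.lift (ι ≫ B.proj j).toImage ι (Scheme.Hom.toImage_imageι _)

/-- The cone with vertex `X`. -/
def closedCone : Cone (closedDiag B ι) where
  pt := Over.mk ι
  π :=
    { app := fun j ↦ Over.homMk (toClosedAt B ι j.unop) (pullback.lift_snd _ _ _)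
      naturality := fun i j a ↦ Over.OverMorphism.ext ((cancel_mono (closedι B ι j.unop)).mp
        (((Category.assoc _ _ _).trans
          ((Category.id_comp _).trans (pullback.lift_snd _ _ _))).trans
          ((Category.assoc _ _ _).trans ((congrArg (toClosedAt B ι i.unop ≫ ·)
            (closedMap_ι B ι (leOfHom a.unop))).trans (pullback.lift_snd _ _ _))).symm)) }

theorem ker_le_of_factors {T : Scheme.{u}} (m : T ⟶ Y)
    (h : ∀ j, ∃ l, l ≫ imgι B ι j = m ≫ B.proj j) : ι.ker ≤ m.ker := by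
  refine Scheme.IdealSheafData.le_ofIdeals_iff.mpr fun U a ha ↦ ?_
  obtain ⟨j₀⟩ := B.nonempty
  obtain ⟨j, O, hO, hOU⟩ :=
    exists_isAffineOpen_preimage_eq B.D B.cone B.isLimit U.1 U.2
  haveI hA : ∀ k, IsAffine ((opensDiagram B.D j O).obj k) := fun k ↦ hO.preimage (B.D.map k.hom)
  have hU' : (U.1 : Y.Opens) = B.cone.π.app j ⁻¹ᵁ O := hOU.symm
  obtain ⟨U, hU⟩ := U
  subst hU'
  obtain ⟨k, b, hb⟩ := exists_appTop_π_eq_of_isAffine_of_isLimit (opensDiagram B.D j O)
    (opensCone B.D B.cone j O) (isLimitOpensCone B.D B.cone B.isLimit j O)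
    ((B.cone.π.app j ⁻¹ᵁ O).topIso.inv a)
  let O' : (B.obj k.left.unop).Opens := B.D.map k.hom ⁻¹ᵁ O
  have hle : B.cone.π.app j ⁻¹ᵁ O ≤ B.proj k.left.unop ⁻¹ᵁ O' := by
    show _ ≤ B.cone.π.app k.left ⁻¹ᵁ (B.D.map k.hom ⁻¹ᵁ O)
    rw [← Scheme.Hom.comp_preimage, B.cone.w]
  let b' : Γ(B.obj k.left.unop, O') := O'.topIso.hom b
  have hb' : (B.proj k.left.unop).appLE O' _ hle b' = a := by
    refine (ConcreteCategory.bijective_of_isIso (C := CommRingCat)
      (B.cone.π.app j ⁻¹ᵁ O).topIso.inv).1 ?_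
    rw [← hb]
    have e : ((opensCone B.D B.cone j O).π.app k).appTop = O'.topIso.hom ≫
        (B.proj k.left.unop).appLE O' _ hle ≫ (B.cone.π.app j ⁻¹ᵁ O).topIso.inv :=
      Scheme.Hom.resLE_app_top _ _
    rw [e]
    rfl
  haveI := quasiCompact_comp_proj B ι k.left.unop
  rw [Scheme.Hom.ker_apply, RingHom.mem_ker] at ha
  have hmem : b' ∈ (ι ≫ B.proj k.left.unop).ker.ideal ⟨O', hO.preimage (B.D.map k.hom)⟩ := by
    rw [Scheme.Hom.ker_apply, RingHom.mem_ker]
    have hle' : (ι ≫ B.proj k.left.unop) ⁻¹ᵁ O' ≤ ι ⁻¹ᵁ (B.cone.π.app j ⁻¹ᵁ O) := by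
      show (ι ≫ B.cone.π.app k.left) ⁻¹ᵁ (B.D.map k.hom ⁻¹ᵁ O) ≤ _
      rw [← Scheme.Hom.comp_preimage, Category.assoc, B.cone.w, Scheme.Hom.comp_preimage]
    have e : (ι ≫ B.proj k.left.unop).app O' =
        (B.proj k.left.unop).appLE O' _ hle ≫ ι.app _ ≫ X.presheaf.map (homOfLE hle').op := by
      rw [Scheme.Hom.app_eq_appLE ι, Scheme.Hom.appLE_map, Scheme.Hom.appLE_comp_appLE,
        Scheme.Hom.app_eq_appLE]
    rw [e, CommRingCat.comp_apply, CommRingCat.comp_apply, hb', ha, map_zero]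
  rw [← Scheme.IdealSheafData.ker_subschemeι (ι ≫ B.proj k.left.unop).ker, Scheme.Hom.ker_apply,
    RingHom.mem_ker] at hmem
  obtain ⟨l, hl⟩ := h k.left.unop
  rw [RingHom.mem_ker]
  have hle'' : m ⁻¹ᵁ (B.cone.π.app j ⁻¹ᵁ O) ≤ (m ≫ B.proj k.left.unop) ⁻¹ᵁ O' := by
    show _ ≤ (m ≫ B.cone.π.app k.left) ⁻¹ᵁ (B.D.map k.hom ⁻¹ᵁ O)
    rw [← Scheme.Hom.comp_preimage m, ← Scheme.Hom.comp_preimage, Category.assoc, B.cone.w]
  rw [← hb']
  show ((B.proj k.left.unop).appLE O' _ hle ≫ m.app _) b' = 0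
  rw [Scheme.Hom.app_eq_appLE m, Scheme.Hom.appLE_comp_appLE]
  have e2 : (m ≫ B.proj k.left.unop).appLE O' _ hle'' =
      (imgι B ι k.left.unop).app O' ≫
        l.appLE _ _ (hle''.trans (by rw [← hl, Scheme.Hom.comp_preimage])) := by
    rw [Scheme.Hom.app_eq_appLE, Scheme.Hom.appLE_comp_appLE]
    have key : ∀ (n : T ⟶ B.obj k.left.unop), n = m ≫ B.proj k.left.unop → ∀ h1 h2,
        (m ≫ B.proj k.left.unop).appLE O' (m ⁻¹ᵁ (B.cone.π.app j ⁻¹ᵁ O)) h1 = n.appLE O' _ h2 := by
      rintro _ rfl h1 h2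
      rfl
    exact key _ hl _ _
  rw [e2, CommRingCat.comp_apply]
  show l.appLE _ _ _ ((imgι B ι k.left.unop).app O' b') = 0
  rw [show (imgι B ι k.left.unop).app O' b' = 0 from hmem, map_zero]

theorem nonempty_isLimit_closedCone : Nonempty (IsLimit (closedCone B ι)) := by
  have key : ∀ (T : Scheme.{u}) (m : T ⟶ Y) (t : ∀ j, T ⟶ closedAt B ι j),
      (∀ j, t j ≫ closedι B ι j = m) → ι.ker ≤ m.ker := fun T m t ht ↦
    ker_le_of_factors B ι m fun j ↦ ⟨t j ≫ pullback.fst _ _, by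
      rw [Category.assoc, pullback.condition, ← Category.assoc, ht]⟩
  let hom : ∀ s : Cone (closedDiag B ι), s.pt.left ⟶ Y := fun s ↦ s.pt.hom
  have ex : ∀ s : Cone (closedDiag B ι), ι.ker ≤ (hom s).ker := fun s ↦
    key _ (hom s) (fun j ↦ (s.π.app (op j)).left) fun j ↦ Over.w (s.π.app (op j))
  let lft : ∀ s : Cone (closedDiag B ι), s.pt.left ⟶ X := fun s ↦
    IsClosedImmersion.lift ι (hom s) (ex s)
  have hlft : ∀ s : Cone (closedDiag B ι), lft s ≫ ι = hom s := fun s ↦
    IsClosedImmersion.lift_fac _ _ _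
  exact ⟨{
    lift := fun s ↦ Over.homMk (lft s) (hlft s)
    fac := fun s j ↦ Over.OverMorphism.ext ((cancel_mono (closedι B ι j.unop)).mp
      ((Category.assoc _ _ _).trans (((congrArg (lft s ≫ ·)
        (pullback.lift_snd _ _ _)).trans (hlft s)).trans
          (Over.w (s.π.app j)).symm)))
    uniq := fun s m _ ↦ Over.OverMorphism.ext ((cancel_mono ι).mp
      ((Over.w m).trans (hlft s).symm)) }⟩

end

end NoethApproxLib
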