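import Groth.Agent.NoethApproxLib.Step

/-!
# Absolute Noetherian approximation

Every quasi-compact quasi-separated scheme is a limit of schemes of finite type over the integers
with affine transition maps, relatively to any approximation of a quasi-compact open.
-/

set_option autoImplicit false

universe u

open CategoryTheory CategoryTheory.Limits AlgebraicGeometry Opposite TopologicalSpace

namespace NoethApproxLib

noncomputable section

/-- Transport along an isomorphism. -/
def Approx.congr {X Y : Scheme.{u}} (A : Approx X) (e : X ≅ Y) : Approx Y where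
  J := A.J
  D := A.D
  π := (Functor.const _).map e.inv ≫ A.π
  isLimit := A.isLimit.ofIsoLimit (Cone.ext e (fun i ↦ (e.hom_inv_id_assoc (A.π.app i)).symm))
  affine := A.affine
  compact := A.compact
  lft := A.lft

theorem Approx.congr_proj {X Y : Scheme.{u}} (A : Approx X) (e : X ≅ Y) (j : A.J) :
    (A.congr e).proj j = e.inv ≫ A.proj j := rfl

theorem range_id' (X : Scheme.{u}) : Set.range (𝟙 X : X ⟶ X) = Set.univ :=
  Set.range_eq_univ.mpr (𝟙 X : X ⟶ X).surjective

theorem preimage_range_comp {P Q R P' Q' R' : Scheme.{u}} (a : P ⟶ Q) (b : Q ⟶ R) (a' : P' ⟶ Q')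
    (b' : Q' ⟶ R') [IsOpenImmersion b'] (f : R ⟶ R') (g : Q ⟶ Q') (h : P ⟶ P')
    (w₁ : h ≫ a' = a ≫ g) (w₂ : g ≫ b' = b ≫ f) (r₁ : g ⁻¹' Set.range a' = Set.range a)
    (r₂ : f ⁻¹' Set.range b' = Set.range b) :
    f ⁻¹' Set.range (a' ≫ b') = Set.range (a ≫ b) := by
  refine Set.Subset.antisymm (fun x hx ↦ ?_) ?_
  · obtain ⟨w, hw⟩ := hx
    rw [Scheme.Hom.comp_apply] at hw
    obtain ⟨y, rfl⟩ : x ∈ Set.range b := r₂.le ⟨a' w, hw⟩
    rw [← Scheme.Hom.comp_apply b, ← w₂, Scheme.Hom.comp_apply] at hw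
    obtain ⟨z, rfl⟩ := r₁.le ⟨w, b'.isOpenEmbedding.injective hw⟩
    exact ⟨z, Scheme.Hom.comp_apply _ _ _⟩
  · rintro _ ⟨z, rfl⟩
    refine ⟨h z, ?_⟩
    rw [← Scheme.Hom.comp_apply, ← Scheme.Hom.comp_apply, ← Category.assoc, w₁, Category.assoc,
      w₂, Category.assoc]

/-- The trivial extension along an isomorphism. -/
def Ext.ofIso {X Y : Scheme.{u}} (A : Approx X) (ι : X ⟶ Y) [IsIso ι] : Ext A ι where
  B := A.congr (asIso ι)
  α := OrderHom.id
  inl j := 𝟙 (A.obj j)
  isOpenImmersion := fun (j : A.J) ↦ inferInstanceAs (IsOpenImmersion (𝟙 (A.obj j)))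
  nat h := (Category.comp_id _).trans (Category.id_comp _).symm
  preimage_range {i j} h := (congrArg _ (range_id' (A.obj i))).trans (range_id' (A.obj j)).symm
  fac := fun (j : A.J) ↦
    ((asIso ι).hom_inv_id_assoc (A.proj j)).trans (Category.comp_id _).symm
  proj_preimage := fun (j : A.J) ↦
    (congrArg _ (range_id' (A.obj j))).trans (Set.range_eq_univ.mpr ι.surjective).symm

/-- Composition of extensions. -/
def Ext.comp {V S T : Scheme.{u}} {A : Approx V} {ι : V ⟶ S} (E : Ext A ι) {κ : S ⟶ T}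
    (F : Ext E.B κ) : Ext A (ι ≫ κ) where
  B := F.B
  α := E.α.comp F.α
  inl j := E.inl (F.α j) ≫ F.inl j
  isOpenImmersion := fun (j : F.B.J) ↦
    inferInstanceAs (IsOpenImmersion (E.inl (F.α j) ≫ F.inl j))
  nat {i j} h := (Category.assoc _ _ _).symm.trans ((congrArg (· ≫ F.inl i) (E.nat (F.α.mono h))).trans
    ((Category.assoc _ _ _).trans ((congrArg (E.inl (F.α j) ≫ ·) (F.nat h)).trans
      (Category.assoc _ _ _).symm)))
  preimage_range {i j} h := preimage_range_comp (E.inl (F.α j)) (F.inl j) (E.inl (F.α i)) (F.inl i)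
    (F.B.map h) (E.B.map (F.α.mono h)) (A.map (E.α.mono (F.α.mono h))) (E.nat _) (F.nat h)
    (E.preimage_range _) (F.preimage_range h)
  fac j := (Category.assoc _ _ _).trans ((congrArg (ι ≫ ·) (F.fac j)).trans
    ((Category.assoc _ _ _).symm.trans ((congrArg (· ≫ F.inl j) (E.fac (F.α j))).trans
      (Category.assoc _ _ _))))
  proj_preimage j := preimage_range_comp ι κ (E.inl (F.α j)) (F.inl j) (F.B.proj j)
    (E.B.proj (F.α j)) (A.proj (E.α (F.α j))) (E.fac _).symm (F.fac j).symm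
    (E.proj_preimage _) (F.proj_preimage j)

/-- The empty approximation. -/
def Approx.empty : Approx (∅ : Scheme.{u}) where
  J := PUnit.{u+1}
  D := (Functor.const _).obj ∅
  π := 𝟙 _
  isLimit := isLimitConstCone _ _
  affine a := inferInstanceAs (IsAffineHom (𝟙 (∅ : Scheme.{u})))
  compact _ := inferInstanceAs (CompactSpace (∅ : Scheme.{u}))
  lft _ := inferInstanceAs (LocallyOfFiniteType (specULiftZIsTerminal.from (∅ : Scheme.{u})))

/-- An approximation of a quasi-compact open extends to the whole scheme. -/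
theorem exists_ext {V S : Scheme.{u}} [CompactSpace S] [QuasiSeparatedSpace S] (ι : V ⟶ S)
    [IsOpenImmersion ι] (A : Approx V) : Nonempty (Ext A ι) := by
  let P : S.Opens → Prop := fun O ↦ ∀ h : ι.opensRange ≤ ι.opensRange ⊔ O,
    Nonempty (Ext A (ι.isoOpensRange.hom ≫ S.homOfLE h))
  suffices h : P ⊤ by
    obtain ⟨E⟩ := h le_sup_left
    haveI : IsIso (ι.opensRange ⊔ ⊤ : S.Opens).ι := by
      rw [sup_top_eq]
      exact inferInstanceAs (IsIso (Scheme.topIso S).hom)
    have he : (ι.isoOpensRange.hom ≫ S.homOfLE le_sup_left) ≫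
        (ι.opensRange ⊔ ⊤ : S.Opens).ι = ι := by
      rw [Category.assoc, Scheme.homOfLE_ι, Scheme.Hom.isoOpensRange_hom_ι]
    exact ⟨he ▸ E.comp (Ext.ofIso E.B _)⟩
  refine compact_open_induction_on ⊤ isCompact_univ (fun h ↦ ?_) fun O hO U hP h ↦ ?_
  · haveI : IsIso (S.homOfLE h) :=
      ⟨⟨S.homOfLE (sup_bot_eq _).le, by rw [Scheme.homOfLE_homOfLE, Scheme.homOfLE_rfl],
        by rw [Scheme.homOfLE_homOfLE, Scheme.homOfLE_rfl]⟩⟩
    exact ⟨Ext.ofIso A _⟩
  · obtain ⟨E⟩ := hP le_sup_left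
    let O₁ : S.Opens := ι.opensRange ⊔ O
    let O₂ : S.Opens := ι.opensRange ⊔ (O ⊔ (U : S.Opens))
    have h12 : O₁ ≤ O₂ := sup_le_sup_left le_sup_left _
    haveI : CompactSpace V := A.compactSpace
    haveI : QuasiSeparatedSpace (O₂ : Scheme.{u}) :=
      (isQuasiSeparated_iff_quasiSeparatedSpace _ O₂.2).mp (.of_quasiSeparatedSpace _)
    let U' : (O₂ : Scheme.{u}).Opens := O₂.ι ⁻¹ᵁ U
    have hU' : IsAffineOpen U' :=
      U.2.preimage_of_isOpenImmersion O₂.ι (by
        rw [Scheme.Opens.opensRange_ι]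
        exact le_sup_of_le_right le_sup_right)
    obtain ⟨F⟩ := nonempty_ext (A := E.B) (S.homOfLE h12) hU' fun x ↦ by
      have hx : x.1 ∈ ι.opensRange ⊔ (O ⊔ (U : S.Opens)) := x.2
      rw [← sup_assoc] at hx
      rcases hx with hx | hx
      · exact Or.inl ⟨⟨x.1, hx⟩, Subtype.ext (S.homOfLE_apply h12 _)⟩
      · exact Or.inr hx
    have he : (ι.isoOpensRange.hom ≫ S.homOfLE le_sup_left) ≫ S.homOfLE h12 =
        ι.isoOpensRange.hom ≫ S.homOfLE h := by
      rw [Category.assoc, Scheme.homOfLE_homOfLE]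
    exact ⟨he ▸ E.comp F⟩

/-- Absolute Noetherian approximation. -/
theorem exists_approx (S : Scheme.{u}) [CompactSpace S] [QuasiSeparatedSpace S] :
    Nonempty (Approx S) :=
  (exists_ext (Scheme.emptyTo S) Approx.empty).map fun E ↦ E.B

end

end NoethApproxLib
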