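import Groth.Agent.NoethApproxLib.Restrict
import Groth.Agent.ChowLib.ChowAll
import Groth.Agent.RichLib.FibreProper
import Groth.Agent.S12442

/-!
# Proper morphisms as limits of proper morphisms of finite presentation
-/

set_option autoImplicit false

universe u

open CategoryTheory CategoryTheory.Limits AlgebraicGeometry Opposite Topology

namespace NoethApproxLib

noncomputable section

/-- Constructible subsets of quasi-compact quasi-separated schemes are compact. -/
theorem isCompact_of_isConstructible_scheme {Z : Scheme.{u}} [CompactSpace Z] [QuasiSeparatedSpace Z]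
    {K : Set Z} (hK : IsConstructible K) : IsCompact K := by
  haveI : Nonempty Z.affineOpens := ⟨⟨⊥, isAffineOpen_bot Z⟩⟩
  induction K, hK using IsConstructible.induction_of_isTopologicalBasis
    (fun U : Z.affineOpens ↦ (U.1 : Set Z)) with
  | basis =>
    have h := Z.isBasis_affineOpens
    rw [TopologicalSpace.Opens.IsBasis] at h
    convert h using 1
    ext t
    constructor
    · rintro ⟨U, rfl⟩; exact ⟨U.1, U.2, rfl⟩
    · rintro ⟨U, hU, rfl⟩; exact ⟨⟨U, hU⟩, rfl⟩
  | isCompact_basis U => exact U.2.isCompact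
  | sdiff U s hs => exact U.2.isCompact.diff (isOpen_biUnion fun V _ ↦ V.1.isOpen)
  | union s hs t ht hs' ht' => exact hs'.union ht'

/-- A proper morphism is a limit of proper morphisms of finite presentation. -/
theorem exists_proper_system {X S : Scheme.{u}} (f : X ⟶ S) [IsProper f] [CompactSpace S]
    [QuasiSeparatedSpace S] :
    ∃ (P : ApproxSys f), (∀ {i j : P.Jᵒᵖ} (a : i ⟶ j), IsClosedImmersion (P.D.map a).left) ∧
      ∀ i, IsClosedImmersion (P.proj i) ∧ IsProper (P.D.obj i).hom := by
  haveI : CompactSpace X := QuasiCompact.compactSpace_of_compactSpace f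
  haveI : QuasiSeparatedSpace X := quasiSeparatedSpace_of_quasiSeparated f
  -- a separated model
  obtain ⟨P, i₁, h₁⟩ := exists_isClosedImmersion_model f
  obtain ⟨i₂, h₂⟩ := P.exists_isSeparated
  obtain ⟨i, a₁, a₂, -⟩ := IsCofilteredOrEmpty.cone_objs i₁ i₂
  haveI := h₁ i a₁
  haveI hsep : IsSeparated (P.D.obj i).hom := h₂ i a₂
  set Z := (P.D.obj i).left
  set z : Z ⟶ S := (P.D.obj i).hom
  set ι : X ⟶ Z := P.proj i
  have hι : ι ≫ z = f := P.proj_hom i
  -- a projective scheme over it
  obtain ⟨n, X', π, j, hj, hjp, hπ, hπs, -⟩ := ChowLib.chow_all f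
  let p := CohB1.ProjSpaceOver.toBase n S
  haveI : IsProper p := inferInstance
  haveI : LocallyOfFinitePresentation p := RichLib.FibreLoci.lfp_toBase n S
  haveI : CompactSpace (CohB1.ProjSpaceOver n S) := QuasiCompact.compactSpace_of_compactSpace p
  haveI : QuasiSeparatedSpace (CohB1.ProjSpaceOver n S) := quasiSeparatedSpace_of_quasiSeparated p
  haveI : IsClosedImmersion j := by
    haveI : IsProper (j ≫ p) := by rw [hjp]; infer_instance
    haveI : IsProper j := IsProper.of_comp j p
    exact IsClosedImmersion.of_isPreimmersion j (Scheme.Hom.isClosedMap j).isClosed_range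
  obtain ⟨Ps, hPs, hPsh⟩ := exists_closed_sys j
  obtain ⟨l, g, hg₁, hg₂⟩ := Scheme.exists_π_app_comp_eq_of_locallyOfFinitePresentation
    (Ps.D ⋙ Over.forget _)
    { app := fun k ↦ (Ps.D.obj k).hom ≫ p
      naturality := fun k k' b ↦ ((Category.assoc _ _ _).symm.trans
        (congrArg (· ≫ p) (Over.w (Ps.D.map b)))).trans (Category.comp_id _).symm }
    z Ps.cone Ps.isLimitCone (π ≫ ι) (NatTrans.ext (funext fun k ↦ by
      show Ps.proj k ≫ (Ps.D.obj k).hom ≫ p = (π ≫ ι) ≫ z
      rw [← Category.assoc, Ps.proj_hom, Category.assoc, hι, hjp]))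
  haveI := hPsh l
  haveI hgp : IsProper (g ≫ z) := by
    rw [hg₂]
    show IsProper ((Ps.D.obj l).hom ≫ p)
    infer_instance
  haveI : IsProper g := IsProper.of_comp g z
  haveI : LocallyOfFinitePresentation (g ≫ z) := by
    rw [hg₂]
    show LocallyOfFinitePresentation ((Ps.D.obj l).hom ≫ p)
    haveI := Ps.lfp l
    infer_instance
  haveI : LocallyOfFinitePresentation g := Groth.Agent.S12442.result g z
  have hT : IsConstructible (Set.range g) := by
    rw [← Set.image_univ]
    exact g.isConstructible_image .univ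
  have hι' : Set.range ι ⊆ Set.range g := by
    rintro _ ⟨x, rfl⟩
    obtain ⟨x', rfl⟩ := π.surjective x
    refine ⟨Ps.proj l x', ?_⟩
    exact congrArg (fun m : X' ⟶ Z ↦ m x') hg₁
  let U : Z.Opens := ⟨(Set.range g)ᶜ, (Scheme.Hom.isClosedMap g).isClosed_range.isOpen_compl⟩
  have hU : IsCompact (U : Set Z) := isCompact_of_isConstructible_scheme hT.compl
  -- the closed subschemes around the given one
  obtain ⟨Q, hQ, hQh⟩ := exists_closed_sys ι
  obtain ⟨q₀⟩ := IsCofiltered.nonempty (C := Q.Jᵒᵖ)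
  haveI : QuasiCompact (Q.D.obj q₀).hom := Q.qc q₀
  obtain ⟨m, b, hm⟩ := exists_map_preimage_le_map_preimage (Q.D ⋙ Over.forget Z) Q.cone Q.isLimitCone
    (i := q₀) (U := (Q.D.obj q₀).hom ⁻¹ᵁ U) (V := ⊥)
    (QuasiCompact.isCompact_preimage (f := (Q.D.obj q₀).hom) _ U.2 hU) (by
      intro x hx
      refine absurd (hι' ⟨x, rfl⟩) ?_
      have h : (Q.proj q₀ ≫ (Q.D.obj q₀).hom) x ∈ U := hx
      rw [Q.proj_hom] at h
      exact h)
  have hrange : Set.range (Q.D.obj m).hom ⊆ Set.range g := by
    rintro _ ⟨x, rfl⟩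
    by_contra hx
    have h : ((Q.D.map b).left ≫ (Q.D.obj q₀).hom) x ∈ U := by rw [Over.w]; exact hx
    exact hm (x := x) h
  haveI : ∀ k : (Q.tail m.unop).Jᵒᵖ, IsClosedImmersion ((Q.tail m.unop).D.obj k).hom := fun k ↦ hQh _
  have key : ∀ k : (Q.tail m.unop).Jᵒᵖ, IsProper (((Q.tail m.unop).D.obj k).hom ≫ z) := by
    intro k
    let q := ((Q.tail m.unop).D.obj k).hom
    have hq : Set.range q ⊆ Set.range g := by
      refine subset_trans ?_ hrange
      rintro _ ⟨x, rfl⟩
      refine ⟨(Q.D.map (homOfLE k.unop.2).op).left x, ?_⟩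
      exact congrArg (fun n ↦ n.base x) (Over.w (Q.D.map (homOfLE k.unop.2).op))
    haveI : Surjective (pullback.snd g q) := ⟨fun x ↦ by
      have : x ∈ Set.range (pullback.snd g q) := by
        rw [Scheme.Pullback.range_snd]
        exact hq ⟨x, rfl⟩
      exact this⟩
    haveI : IsProper (pullback.fst g q ≫ (g ≫ z)) := inferInstance
    haveI : IsProper (pullback.snd g q ≫ (q ≫ z)) := by
      rw [← pullback.condition_assoc]
      exact this
    haveI : UniversallyClosed (q ≫ z) := UniversallyClosed.of_comp_surjective (pullback.snd g q) _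
    exact { }
  have hπc : ∀ k : (Q.tail m.unop).Jᵒᵖ, IsClosedImmersion ((Q.tail m.unop).proj k) := fun k ↦ by
    haveI : IsClosedImmersion ((Q.tail m.unop).proj k ≫ ((Q.tail m.unop).D.obj k).hom) := by
      rw [(Q.tail m.unop).proj_hom]; infer_instance
    exact IsClosedImmersion.of_comp _ ((Q.tail m.unop).D.obj k).hom
  rw [← hι]
  exact ⟨(Q.tail m.unop).map z, fun a ↦ hQ _, fun k ↦ ⟨hπc k, key k⟩⟩

end

end NoethApproxLib
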