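import Groth.Agent.NoethApproxLib.Restrict

/-!
# Integral morphisms as limits of finite morphisms of finite presentation
-/

set_option autoImplicit false

universe u

open CategoryTheory CategoryTheory.Limits AlgebraicGeometry Opposite

namespace NoethApproxLib

noncomputable section

set_option backward.isDefEq.respectTransparency false in
/-- The scheme-theoretic image inside an affine scheme of finite type over the base of a scheme
integral over the base is finite over the base. -/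
theorem isFinite_image {X Z S : Scheme.{u}} (p : X ⟶ Z) (g : Z ⟶ S) [QuasiCompact p]
    [IsAffineHom g] [LocallyOfFiniteType g] [IsIntegralHom (p ≫ g)] :
    IsFinite (p.imageι ≫ g) := by
  rw [IsFinite.iff_isIntegralHom_and_locallyOfFiniteType]
  refine ⟨⟨fun U hU ↦ ?_⟩, inferInstance⟩
  have hV : IsAffineOpen (g ⁻¹ᵁ U) := hU.preimage g
  intro z
  let φ : Γ(S, U) →+* Γ(p.image, p.imageι ⁻¹ᵁ (g ⁻¹ᵁ U)) := ((p.imageι ≫ g).app U).hom
  let τ := (p.toImage.app (p.imageι ⁻¹ᵁ (g ⁻¹ᵁ U))).hom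
  have he : p.toImage ≫ (p.imageι ≫ g) = p ≫ g := by rw [← Category.assoc, p.toImage_imageι]
  have h : (τ.comp φ).IsIntegral := by
    have h' : ((p.toImage ≫ p.imageι ≫ g).app U).hom.IsIntegral := by
      rw [he]; exact IsIntegralHom.isIntegral_app (p ≫ g) U hU
    exact h'
  obtain ⟨q, hq, hqz⟩ := h (τ z)
  refine ⟨q, hq, (p.toImage_app_injective ⟨g ⁻¹ᵁ U, hV⟩ :
    Function.Injective τ) ?_⟩
  show τ (q.eval₂ φ z) = τ 0
  rw [map_zero, Polynomial.hom_eval₂]
  exact hqz

theorem isAffineHom_comp {X Y Z : Scheme.{u}} {f : X ⟶ Y} {g : Y ⟶ Z} (hf : IsClosedImmersion f)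
    (hg : IsAffineHom g) : IsAffineHom (f ≫ g) := inferInstance

theorem lft_comp {X Y Z : Scheme.{u}} {f : X ⟶ Y} {g : Y ⟶ Z} (hf : IsClosedImmersion f)
    (hg : LocallyOfFiniteType g) : LocallyOfFiniteType (f ≫ g) := inferInstance

/-- The scheme-theoretic image dominates after composing with an affine morphism. -/
theorem ker_imageι_comp_ge {X Y Z : Scheme.{u}} (p : X ⟶ Y) (μ : Y ⟶ Z) [QuasiCompact p]
    [IsAffineHom μ] : (p ≫ μ).ker ≤ (p.imageι ≫ μ).ker := by
  intro U a ha
  rw [Scheme.Hom.ker_apply, RingHom.mem_ker] at ha ⊢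
  have hV : IsAffineOpen (μ ⁻¹ᵁ U.1) := U.2.preimage _
  have h1 : μ.app U.1 a ∈ p.ker.ideal ⟨μ ⁻¹ᵁ U.1, hV⟩ := by
    rw [Scheme.Hom.ker_apply, RingHom.mem_ker]
    exact ha
  rw [← Scheme.IdealSheafData.ker_subschemeι p.ker, Scheme.Hom.ker_apply, RingHom.mem_ker] at h1
  exact h1

namespace ApproxSys

variable {X S : Scheme.{u}} {f : X ⟶ S} (P : ApproxSys f)
  [IsIntegralHom f] [CompactSpace S] [haff : ∀ i, IsAffineHom (P.D.obj i).hom]

theorem quasiCompact_proj (i : P.Jᵒᵖ) : QuasiCompact (P.proj i) :=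
  haveI := P.isAffineHom_proj i
  inferInstance

theorem nonempty_imageSys (i : P.Jᵒᵖ) : Nonempty (Σ' Q : ApproxSys (P.proj i).imageι,
    PLift ((∀ {j k : Q.Jᵒᵖ} (a : j ⟶ k), IsClosedImmersion (Q.D.map a).left) ∧
      ∀ j, IsClosedImmersion (Q.D.obj j).hom)) := by
  obtain ⟨Q, h₁, h₂⟩ := exists_closed_sys (P.proj i).imageι
  exact ⟨⟨Q, ⟨h₁, h₂⟩⟩⟩

/-- The closed subschemes of finite presentation around the image at a stage. -/
def imageSys (i : P.Jᵒᵖ) : ApproxSys (P.proj i).imageι := (P.nonempty_imageSys i).some.1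

theorem isClosedImmersion_imageSys_hom (i : P.Jᵒᵖ) (j : (P.imageSys i).Jᵒᵖ) :
    IsClosedImmersion ((P.imageSys i).D.obj j).hom := (P.nonempty_imageSys i).some.2.down.2 j

theorem isClosedImmersion_imageSys_map (i : P.Jᵒᵖ) {j k : (P.imageSys i).Jᵒᵖ} (a : j ⟶ k) :
    IsClosedImmersion ((P.imageSys i).D.map a).left := (P.nonempty_imageSys i).some.2.down.1 a

theorem exists_isFinite_imageSys (i : P.Jᵒᵖ) : ∃ m, ∀ j, (j ⟶ m) →
    IsFinite (((P.imageSys i).D.obj j).hom ≫ (P.D.obj i).hom) := by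
  let Q := P.imageSys i
  haveI := P.quasiCompact_proj i
  haveI := P.lfp i
  haveI hft : LocallyOfFiniteType (P.D.obj i).hom := inferInstance
  haveI : IsIntegralHom (P.proj i ≫ (P.D.obj i).hom) := by rw [P.proj_hom]; infer_instance
  haveI := isFinite_image (P.proj i) (P.D.obj i).hom
  obtain ⟨j₀⟩ := IsCofiltered.nonempty (C := Q.Jᵒᵖ)
  have hc := P.isClosedImmersion_imageSys_hom i
  exact exists_isFinite_of_isIntegral (S := S) (Q.D ⋙ Over.forget _)
    (fun j ↦ (Q.D.obj j).hom ≫ (P.D.obj i).hom)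
    (fun a ↦ (Category.assoc _ _ _).symm.trans (congrArg (· ≫ _) (Over.w (Q.D.map a))))
    Q.cone Q.isLimitCone
    (fun a ↦ ((IsClosedImmersion.iff_isFinite_and_mono _).mp
      (P.isClosedImmersion_imageSys_map i a)).1)
    (fun j ↦ isAffineHom_comp (hc j) (haff i)) (fun j ↦ lft_comp (hc j) hft) j₀ (by
      show IsIntegralHom (Q.proj j₀ ≫ (Q.D.obj j₀).hom ≫ (P.D.obj i).hom)
      rw [← Category.assoc, Q.proj_hom]
      infer_instance)

/-- Finite stages of the systems around the images. -/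
structure FinIdx where
  i : P.J
  j : (P.imageSys (op i)).J
  isFinite : IsFinite (((P.imageSys (op i)).D.obj (op j)).hom ≫ (P.D.obj (op i)).hom)

namespace FinIdx

variable {P}

/-- The scheme of an index. -/
abbrev obj (a : P.FinIdx) : Scheme.{u} := ((P.imageSys (op a.i)).D.obj (op a.j)).left

/-- Its embedding in the stage. -/
abbrev q (a : P.FinIdx) : a.obj ⟶ (P.D.obj (op a.i)).left :=
  ((P.imageSys (op a.i)).D.obj (op a.j)).hom

instance (a : P.FinIdx) : IsClosedImmersion a.q := P.isClosedImmersion_imageSys_hom _ _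

instance : Preorder P.FinIdx where
  le a b := ∃ (h : a.i ≤ b.i) (m : b.obj ⟶ a.obj), m ≫ a.q = b.q ≫ (P.D.map (homOfLE h).op).left
  le_refl a := ⟨le_rfl, 𝟙 _, by
    rw [show (homOfLE (le_refl a.i)).op = 𝟙 (op a.i) from rfl, P.D.map_id, Over.id_left,
      Category.id_comp, Category.comp_id]⟩
  le_trans a b c := fun ⟨h, m, hm⟩ ⟨h', m', hm'⟩ ↦ ⟨h.trans h', m' ≫ m, by
    rw [Category.assoc, hm, ← Category.assoc, hm', Category.assoc, ← Over.comp_left,
      ← Functor.map_comp]
    rfl⟩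

/-- The map of the vertex into an index. -/
def proj (a : P.FinIdx) : X ⟶ a.obj :=
  (P.proj (op a.i)).toImage ≫ (P.imageSys (op a.i)).proj (op a.j)

theorem proj_q (a : P.FinIdx) : a.proj ≫ a.q = P.proj (op a.i) := by
  rw [proj, Category.assoc, (P.imageSys (op a.i)).proj_hom, Scheme.Hom.toImage_imageι]

theorem exists_finite_ge (i : P.J) (j : (P.imageSys (op i)).J) :
    ∃ (j' : (P.imageSys (op i)).J) (_ : j ≤ j'),
      IsFinite (((P.imageSys (op i)).D.obj (op j')).hom ≫ (P.D.obj (op i)).hom) := by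
  obtain ⟨m, hm⟩ := P.exists_isFinite_imageSys (op i)
  obtain ⟨j', h₁, h₂⟩ := exists_ge_ge j m.unop
  exact ⟨j', h₁, hm (op j') (homOfLE h₂).op⟩

theorem exists_lift (a : P.FinIdx) {i : P.J} (h : a.i ≤ i) :
    ∃ j₀ : (P.imageSys (op i)).J, ∀ j, j₀ ≤ j → ∃ m : ((P.imageSys (op i)).D.obj (op j)).left ⟶ a.obj,
      m ≫ a.q = ((P.imageSys (op i)).D.obj (op j)).hom ≫ (P.D.map (homOfLE h).op).left := by
  let Q := P.imageSys (op i)
  let μ := (P.D.map (homOfLE h).op).left
  have hp : P.proj (op i) ≫ μ = P.proj (op a.i) :=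
    congrArg Over.Hom.left (Cone.w (Cone.mk _ P.π) (homOfLE h).op)
  haveI := P.quasiCompact_proj (op i)
  have hker : a.q.ker ≤ ((P.proj (op i)).imageι ≫ μ).ker := by
    refine le_trans ?_ (ker_imageι_comp_ge (P.proj (op i)) μ)
    rw [hp, ← proj_q a]
    exact a.proj.le_ker_comp a.q
  let l := IsClosedImmersion.lift a.q ((P.proj (op i)).imageι ≫ μ) hker
  haveI : LocallyOfFinitePresentation a.q := (P.imageSys (op a.i)).lfp _
  obtain ⟨j₀, g, -, hg⟩ := Scheme.exists_π_app_comp_eq_of_locallyOfFinitePresentation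
    (Q.D ⋙ Over.forget _)
    { app := fun j ↦ (Q.D.obj j).hom ≫ μ
      naturality := fun j k b ↦ ((Category.assoc _ _ _).symm.trans
        (congrArg (· ≫ μ) (Over.w (Q.D.map b)))).trans (Category.comp_id _).symm }
    a.q Q.cone Q.isLimitCone l (NatTrans.ext (funext fun j ↦ by
      show Q.proj j ≫ (Q.D.obj j).hom ≫ μ = l ≫ a.q
      rw [← Category.assoc, Q.proj_hom, IsClosedImmersion.lift_fac]))
  refine ⟨j₀.unop, fun j hj ↦ ⟨(Q.D.map (homOfLE hj).op).left ≫ g, ?_⟩⟩
  refine (Category.assoc _ _ _).trans ((congrArg ((Q.D.map (homOfLE hj).op).left ≫ ·) hg).trans ?_)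
  exact (Category.assoc _ _ _).symm.trans (congrArg (· ≫ μ) (Over.w (Q.D.map (homOfLE hj).op)))

instance : IsDirectedOrder P.FinIdx where
  directed a b := by
    obtain ⟨i, ha, hb⟩ := exists_ge_ge a.i b.i
    obtain ⟨j₁, h₁⟩ := exists_lift a ha
    obtain ⟨j₂, h₂⟩ := exists_lift b hb
    obtain ⟨j₃, h₃, h₄⟩ := exists_ge_ge j₁ j₂
    obtain ⟨j, hj, hfin⟩ := exists_finite_ge i j₃
    exact ⟨⟨i, j, hfin⟩, ⟨ha, h₁ j (h₃.trans hj)⟩, ⟨hb, h₂ j (h₄.trans hj)⟩⟩

theorem exists_over (i : P.J) : ∃ a : P.FinIdx, a.i = i := by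
  obtain ⟨j₀⟩ := (P.imageSys (op i)).nonempty
  obtain ⟨j, -, hfin⟩ := exists_finite_ge i j₀
  exact ⟨⟨i, j, hfin⟩, rfl⟩

instance : Nonempty P.FinIdx := ⟨(exists_over P.nonempty.some).choose⟩

/-- The transition maps. -/
def map {a b : P.FinIdx} (h : a ≤ b) : b.obj ⟶ a.obj := h.choose_spec.choose

theorem map_q {a b : P.FinIdx} (h : a ≤ b) :
    map h ≫ a.q = b.q ≫ (P.D.map (homOfLE h.choose).op).left := h.choose_spec.choose_spec

end FinIdx


/-- The system of finite models. -/
def finDiag : P.FinIdxᵒᵖ ⥤ Over S where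
  obj a := Over.mk (a.unop.q ≫ (P.D.obj (op a.unop.i)).hom)
  map {a b} u := Over.homMk (FinIdx.map (leOfHom u.unop)) (by
    show FinIdx.map _ ≫ b.unop.q ≫ _ = a.unop.q ≫ _
    rw [← Category.assoc, FinIdx.map_q, Category.assoc, Over.w])
  map_id a := Over.OverMorphism.ext ((cancel_mono a.unop.q).mp (by
    show FinIdx.map (le_refl a.unop) ≫ a.unop.q = 𝟙 _ ≫ a.unop.q
    rw [FinIdx.map_q, show (homOfLE (le_refl a.unop).choose).op = 𝟙 (op a.unop.i)
      from rfl, P.D.map_id, Over.id_left, Category.comp_id, Category.id_comp]))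
  map_comp {a b c} u v := Over.OverMorphism.ext ((cancel_mono c.unop.q).mp (by
    show FinIdx.map ((leOfHom v.unop).trans (leOfHom u.unop)) ≫ c.unop.q =
      (FinIdx.map (leOfHom u.unop) ≫ FinIdx.map (leOfHom v.unop)) ≫ c.unop.q
    rw [Category.assoc, FinIdx.map_q, FinIdx.map_q, ← Category.assoc, FinIdx.map_q, Category.assoc,
      ← Over.comp_left, ← Functor.map_comp]
    rfl))

/-- The cone with vertex the given scheme. -/
def finCone : Cone P.finDiag where
  pt := Over.mk f
  π :=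
    { app := fun a ↦ Over.homMk a.unop.proj (by
        show a.unop.proj ≫ a.unop.q ≫ _ = f
        rw [← Category.assoc, FinIdx.proj_q, P.proj_hom])
      naturality := fun a b u ↦ Over.OverMorphism.ext ((cancel_mono b.unop.q).mp (by
        show (𝟙 X ≫ b.unop.proj) ≫ b.unop.q = (a.unop.proj ≫ FinIdx.map (leOfHom u.unop)) ≫ b.unop.q
        rw [Category.id_comp, Category.assoc, FinIdx.map_q, ← Category.assoc, FinIdx.proj_q,
          FinIdx.proj_q]
        exact (congrArg Over.Hom.left (Cone.w (Cone.mk _ P.π) _)).symm)) }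

theorem nonempty_isLimit_finCone : Nonempty (IsLimit P.finCone) := by
  let sec (i : P.J) : P.FinIdx := (FinIdx.exists_over i).choose
  have hsec : ∀ i, (sec i).i = i := fun i ↦ (FinIdx.exists_over i).choose_spec
  let val (s : Cone P.finDiag) (a : P.FinIdx) : s.pt ⟶ P.D.obj (op a.i) :=
    s.π.app (op a) ≫ Over.homMk a.q rfl
  have hval : ∀ s (a b : P.FinIdx) (h : a.i ≤ b.i),
      val s b ≫ P.D.map (homOfLE h).op = val s a := by
    intro s a b h
    have le : ∀ {a c : P.FinIdx} (hac : a ≤ c),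
        val s c ≫ P.D.map (homOfLE hac.choose).op = val s a := fun {a c} hac ↦ by
      refine Over.OverMorphism.ext ?_
      show ((s.π.app (op c)).left ≫ c.q) ≫ _ = (s.π.app (op a)).left ≫ a.q
      refine (Category.assoc _ _ _).trans ((congrArg ((s.π.app (op c)).left ≫ ·)
        (FinIdx.map_q hac).symm).trans ((Category.assoc _ _ _).symm.trans ?_))
      exact congrArg (fun m : s.pt ⟶ P.finDiag.obj (op a) ↦ m.left ≫ a.q) (s.w (homOfLE hac).op)
    obtain ⟨c, hac, hbc⟩ := exists_ge_ge a b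
    rw [← le hbc, Category.assoc, ← Functor.map_comp, ← le hac]
    rfl
  let cn (s : Cone P.finDiag) : Cone P.D :=
    { pt := s.pt
      π :=
        { app := fun i ↦ val s (sec i.unop) ≫ P.D.map (homOfLE (hsec i.unop).ge).op
          naturality := fun i k u ↦ by
            refine (Category.id_comp _).trans ?_
            refine (congrArg (· ≫ P.D.map _) (hval s (sec k.unop) (sec i.unop)
              (by rw [hsec, hsec]; exact leOfHom u.unop)).symm).trans ?_
            refine (Category.assoc _ _ _).trans (Eq.trans ?_ (Category.assoc _ _ _).symm)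
            refine congrArg (val s (sec i.unop) ≫ ·) ?_
            refine (P.D.map_comp _ _).symm.trans (Eq.trans ?_ (P.D.map_comp _ _))
            rfl } }
  exact ⟨{
    lift := fun s ↦ P.isLimit.lift (cn s)
    fac := fun s a ↦ Over.OverMorphism.ext ((cancel_mono a.unop.q).mp (by
      show ((P.isLimit.lift (cn s)).left ≫ a.unop.proj) ≫ a.unop.q = (s.π.app a).left ≫ a.unop.q
      rw [Category.assoc, FinIdx.proj_q]
      refine (congrArg Over.Hom.left (P.isLimit.fac (cn s) (op a.unop.i))).trans ?_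
      exact congrArg Over.Hom.left
        (hval s a.unop (sec a.unop.i) (hsec _).ge)))
    uniq := fun s l hl ↦ P.isLimit.hom_ext fun i ↦ by
      rw [P.isLimit.fac]
      show l ≫ P.π.app i = val s (sec i.unop) ≫ P.D.map _
      show _ = (s.π.app (op (sec i.unop)) ≫ Over.homMk (sec i.unop).q rfl) ≫ _
      rw [← hl (op (sec i.unop))]
      refine Over.OverMorphism.ext ?_
      show l.left ≫ P.proj i = ((l.left ≫ (sec i.unop).proj) ≫ (sec i.unop).q) ≫ _
      refine Eq.trans (congrArg (l.left ≫ ·) ?_) ((Category.assoc _ _ _).symm.trans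
        (congrArg (· ≫ _) (Category.assoc _ _ _).symm))
      exact (congrArg Over.Hom.left (Cone.w (Cone.mk _ P.π) _)).symm.trans
        (congrArg (· ≫ _) (FinIdx.proj_q (sec i.unop)).symm) }⟩

end ApproxSys

end

end NoethApproxLib
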