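import Groth.Agent.NoethApproxLib.Proper
import Groth.Agent.DescFP.Main
import Groth.Agent.ConsLib.PairProper

/-!
# Proper morphisms as limits of proper morphisms between schemes of finite type over the integers
-/

set_option autoImplicit false

universe u

open CategoryTheory CategoryTheory.Limits AlgebraicGeometry Opposite RichLib.LimBC

namespace NoethApproxLib

noncomputable section

variable {S : Scheme.{u}} (B : Approx S) (b : B.J)

/-- The tail of an approximation, as a system over a stage. -/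
def tailSys : Sys {c : B.J // b ≤ c}ᵒᵖ (B.obj b) where
  D := (OrderHom.Subtype.val (fun c : B.J ↦ b ≤ c)).monotone.functor.op ⋙ B.D
  t c := B.map c.unop.2
  w {c d} a := (B.D.map_comp _ _).symm
  c := B.cone.whisker (OrderHom.Subtype.val (fun c : B.J ↦ b ≤ c)).monotone.functor.op
  hc :=
    haveI : IsDirectedOrder {c : B.J // b ≤ c} := ⟨fun x y ↦ by
      obtain ⟨z, h₁, h₂⟩ := exists_ge_ge x.1 y.1
      exact ⟨⟨z, x.2.trans h₁⟩, h₁, h₂⟩⟩
    haveI : (OrderHom.Subtype.val (fun c : B.J ↦ b ≤ c)).monotone.functor.Final :=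
      (Monotone.final_functor_iff _).mpr fun j ↦ by
        obtain ⟨k, h₁, h₂⟩ := exists_ge_ge b j
        exact ⟨⟨k, h₁⟩, h₂⟩
    (Functor.Initial.isLimitWhiskerEquiv
      (OrderHom.Subtype.val (fun c : B.J ↦ b ≤ c)).monotone.functor.op _).symm B.isLimit
  affine c := B.affine _
  s := B.proj b
  hs c := B.proj_map c.unop.2

theorem isDirected_tail : IsDirectedOrder {c : B.J // b ≤ c} := ⟨fun x y ↦ by
  obtain ⟨z, h₁, h₂⟩ := exists_ge_ge x.1 y.1
  exact ⟨⟨z, x.2.trans h₁⟩, h₁, h₂⟩⟩

variable {Z : Scheme.{u}} (p : Z ⟶ B.obj b) [LocallyOfFiniteType p] [QuasiCompact p]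

theorem qc_snd {X Y T : Scheme.{u}} (q : X ⟶ Y) (t : T ⟶ Y) [QuasiCompact q] :
    QuasiCompact (pullback.snd q t) := inferInstance

theorem lft_snd {X Y T : Scheme.{u}} (q : X ⟶ Y) (t : T ⟶ Y) [LocallyOfFiniteType q] :
    LocallyOfFiniteType (pullback.snd q t) := inferInstance

theorem compactSpace_snd {X Y T : Scheme.{u}} (q : X ⟶ Y) (t : T ⟶ Y) [QuasiCompact q]
    (h : CompactSpace T) : CompactSpace (pullback q t : Scheme.{u}) :=
  QuasiCompact.compactSpace_of_compactSpace (pullback.snd q t)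

theorem isProper_snd {X Y T : Scheme.{u}} (q : X ⟶ Y) (t : T ⟶ Y) [IsProper q] :
    IsProper (pullback.snd q t) := inferInstance

theorem isProper_comp {X Y T : Scheme.{u}} {q : X ⟶ Y} {t : Y ⟶ T} (hq : IsClosedImmersion q)
    (ht : IsProper t) : IsProper (q ≫ t) := inferInstance

theorem isClosedImmersion_imageι {X Y : Scheme.{u}} (g : X ⟶ Y) : IsClosedImmersion g.imageι :=
  inferInstance

/-- The approximation of a base change. -/
def baseApprox : Approx (pullback p (B.proj b)) :=
  haveI := isDirected_tail B b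
  { J := {c : B.J // b ≤ c}
    nonempty := ⟨⟨b, le_rfl⟩⟩
    D := (pb (tailSys B b) p).D
    π := (pb (tailSys B b) p).c.π
    isLimit := (pb (tailSys B b) p).hc
    affine := fun a ↦ (pb (tailSys B b) p).affine_map a
    compact := fun c ↦
      compactSpace_snd p (B.map c.unop.2) (B.compact _)
    lft := fun c ↦ by
      haveI : LocallyOfFiniteType (pullback.snd p (B.map c.unop.2)) := lft_snd p _
      haveI : LocallyOfFiniteType (specULiftZIsTerminal.from (B.obj c.unop.1)) := B.lft _
      show LocallyOfFiniteType (specULiftZIsTerminal.from (pullback p (B.map c.unop.2)))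
      rw [specULiftZIsTerminal.hom_ext (specULiftZIsTerminal.from (pullback p (B.map c.unop.2)))
        (pullback.snd p (B.map c.unop.2) ≫ specULiftZIsTerminal.from (B.obj c.unop.1))]
      infer_instance }

variable {X : Scheme.{u}} (ι : X ⟶ pullback p (B.proj b)) [IsClosedImmersion ι]

/-- The images at the stages. -/
def imgDiag : (baseApprox B b p).Jᵒᵖ ⥤ Scheme.{u} where
  obj c := (ι ≫ (baseApprox B b p).proj c.unop).image
  map a := imgMap (baseApprox B b p) ι (leOfHom a.unop)
  map_id c := (cancel_mono (imgι (baseApprox B b p) ι c.unop)).mp (by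
    rw [imgMap_ι, Approx.map_self, Category.comp_id, Category.id_comp])
  map_comp {c d e} u v := (cancel_mono (imgι (baseApprox B b p) ι e.unop)).mp (by
    rw [Category.assoc, imgMap_ι, imgMap_ι, imgMap_ι_assoc, Approx.map_map])

/-- The cone with vertex the closed subscheme. -/
def imgCone : Cone (imgDiag B b p ι) where
  pt := X
  π :=
    { app := fun c ↦ (ι ≫ (baseApprox B b p).proj c.unop).toImage
      naturality := fun c d u ↦ (cancel_mono (imgι (baseApprox B b p) ι d.unop)).mp (by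
        show (𝟙 X ≫ (ι ≫ (baseApprox B b p).proj d.unop).toImage) ≫ imgι _ ι d.unop =
          ((ι ≫ (baseApprox B b p).proj c.unop).toImage ≫ imgMap _ ι (leOfHom u.unop)) ≫ imgι _ ι d.unop
        rw [Category.id_comp, Category.assoc, imgMap_ι, ← Category.assoc, Scheme.Hom.toImage_imageι,
          Scheme.Hom.toImage_imageι, Category.assoc, Approx.proj_map]) }

theorem nonempty_isLimit_imgCone : Nonempty (IsLimit (imgCone B b p ι)) := by
  let t (s : Cone (imgDiag B b p ι)) (c : (baseApprox B b p).J) :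
      s.pt ⟶ (ι ≫ (baseApprox B b p).proj c).image := s.π.app (op c)
  have ht : ∀ s {c d} (h : c ≤ d), t s d ≫ imgMap (baseApprox B b p) ι h = t s c := fun s c d h ↦
    s.w (homOfLE h).op
  let cn (s : Cone (imgDiag B b p ι)) : Cone (baseApprox B b p).D :=
    { pt := s.pt
      π :=
        { app := fun c ↦ t s c.unop ≫ imgι (baseApprox B b p) ι c.unop
          naturality := fun c d u ↦ by
            refine (Category.id_comp _).trans ?_
            show _ = (t s c.unop ≫ imgι _ ι c.unop) ≫ (baseApprox B b p).map (leOfHom u.unop)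
            rw [Category.assoc, ← imgMap_ι, ← Category.assoc, ht] } }
  let m (s : Cone (imgDiag B b p ι)) : s.pt ⟶ pullback p (B.proj b) :=
    (baseApprox B b p).isLimit.lift (cn s)
  have hm : ∀ s c, m s ≫ (baseApprox B b p).proj c = t s c ≫ imgι (baseApprox B b p) ι c :=
    fun s c ↦ (baseApprox B b p).isLimit.fac (cn s) (op c)
  have hker : ∀ s, ι.ker ≤ (m s).ker := fun s ↦
    ker_le_of_factors (baseApprox B b p) ι (m s) fun c ↦ ⟨t s c, (hm s c).symm⟩
  exact ⟨{
    lift := fun s ↦ @IsClosedImmersion.lift X _ _ ι (m s) _ (hker s)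
    fac := fun s c ↦ (cancel_mono (imgι (baseApprox B b p) ι c.unop)).mp (by
      show (IsClosedImmersion.lift ι (m s) (hker s) ≫
        (ι ≫ (baseApprox B b p).proj c.unop).toImage) ≫ imgι _ ι c.unop = t s c.unop ≫ imgι _ ι c.unop
      rw [Category.assoc, Scheme.Hom.toImage_imageι, IsClosedImmersion.lift_fac_assoc]
      exact hm s c.unop)
    uniq := fun s l hl ↦ (cancel_mono ι).mp ((baseApprox B b p).isLimit.hom_ext fun c ↦ by
      refine Eq.trans ?_ ((congrArg (· ≫ (baseApprox B b p).proj c.unop)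
        (IsClosedImmersion.lift_fac ι (m s) (hker s))).trans (hm s c.unop)).symm
      refine (Category.assoc _ _ _).trans ((congrArg (l ≫ ·)
        (ι ≫ (baseApprox B b p).proj c.unop).toImage_imageι.symm).trans ?_)
      exact (Category.assoc _ _ _).symm.trans (congrArg (· ≫ _) (hl c))) }⟩

/-- Data exhibiting a proper morphism as a limit of proper morphisms between schemes of finite type
over the integers. -/
theorem exists_proper_limit {X S : Scheme.{u}} (f : X ⟶ S) [IsProper f] [CompactSpace S]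
    [QuasiSeparatedSpace S] :
    ∃ (I : Type u) (_ : SmallCategory I) (_ : IsCofiltered I) (DX DS : I ⥤ Scheme.{u}) (φ : DX ⟶ DS)
      (πX : (Functor.const I).obj X ⟶ DX) (πS : (Functor.const I).obj S ⟶ DS)
      (_ : IsLimit (Cone.mk X πX)) (_ : IsLimit (Cone.mk S πS)),
      (∀ (i j : I) (a : i ⟶ j), IsAffineHom (DX.map a) ∧ IsAffineHom (DS.map a)) ∧
      (∀ i, IsProper (φ.app i) ∧ CompactSpace (DS.obj i) ∧
        LocallyOfFiniteType (specULiftZIsTerminal.from (DS.obj i))) ∧
      (∀ i, πX.app i ≫ φ.app i = f ≫ πS.app i) := by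
  obtain ⟨P, -, hP⟩ := exists_proper_system f
  obtain ⟨i⟩ := IsCofiltered.nonempty (C := P.Jᵒᵖ)
  haveI := (hP i).1
  haveI hpr : IsProper (P.D.obj i).hom := (hP i).2
  haveI := P.lfp i
  obtain ⟨B⟩ := exists_approx S
  haveI : ∀ (j k : B.Jᵒᵖ) (a : j ⟶ k), IsAffineHom (B.D.map a) := fun _ _ a ↦ B.affine a
  obtain ⟨⟨j⟩, ⟨M⟩⟩ := DescFP.exists_model B.isLimit (P.D.obj i).hom
  haveI := M.lfp
  haveI := M.qc
  haveI := M.qs
  haveI := isDirected_tail B j
  haveI : Nonempty {c : B.J // j ≤ c} := ⟨⟨j, le_rfl⟩⟩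
  obtain ⟨⟨c₀⟩, hc₀⟩ := ConsLib.exists_at_isProper (tailSys B j) M.p (by
    show IsProper (pullback.snd M.p (B.proj j))
    rw [← M.sq.isoPullback_inv_snd]
    infer_instance)
  let M' := M.push (homOfLE c₀.2).op
  haveI : IsProper M'.p := hc₀
  let ι : X ⟶ pullback M'.p (B.proj c₀.1) := P.proj i ≫ M'.sq.isoPullback.hom
  haveI := isDirected_tail B c₀.1
  haveI : Nonempty {c : B.J // c₀.1 ≤ c} := ⟨⟨c₀.1, le_rfl⟩⟩
  refine ⟨(baseApprox B c₀.1 M'.p).Jᵒᵖ, inferInstance, inferInstance, imgDiag B c₀.1 M'.p ι,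
    (tailSys B c₀.1).D,
    { app := fun c ↦ imgι (baseApprox B c₀.1 M'.p) ι c.unop ≫ pullback.snd M'.p (B.map c.unop.2)
      naturality := fun c d u ↦ ?_ },
    (imgCone B c₀.1 M'.p ι).π, (tailSys B c₀.1).c.π,
    (nonempty_isLimit_imgCone B c₀.1 M'.p ι).some, (tailSys B c₀.1).hc,
    fun c d u ↦ ⟨?_, B.affine _⟩, fun c ↦ ⟨?_, B.compact _, B.lft _⟩, fun c ↦ ?_⟩
  · show imgMap _ ι (leOfHom u.unop) ≫ imgι _ ι d.unop ≫ _ =
      (imgι _ ι c.unop ≫ pullback.snd M'.p (B.map c.unop.2)) ≫ (tailSys B c₀.1).D.map u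
    refine (Category.assoc _ _ _).symm.trans ((congrArg (· ≫ pullback.snd M'.p (B.map d.unop.2))
      (imgMap_ι _ ι (leOfHom u.unop))).trans ?_)
    exact (Category.assoc _ _ _).trans ((congrArg (imgι _ ι c.unop ≫ ·)
      (pbMap_snd (tailSys B c₀.1) M'.p u)).trans (Category.assoc _ _ _).symm)
  · haveI : IsAffineHom ((baseApprox B c₀.1 M'.p).map (leOfHom u.unop)) :=
      (baseApprox B c₀.1 M'.p).affine _
    show IsAffineHom (imgMap (baseApprox B c₀.1 M'.p) ι (leOfHom u.unop))
    haveI : IsAffineHom (imgMap _ ι (leOfHom u.unop) ≫ imgι (baseApprox B c₀.1 M'.p) ι d.unop) := by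
      rw [imgMap_ι]; infer_instance
    exact IsAffineHom.of_comp _ (imgι (baseApprox B c₀.1 M'.p) ι d.unop)
  · exact isProper_comp (isClosedImmersion_imageι _) (isProper_snd M'.p (B.map c.unop.2))
  · show (ι ≫ (baseApprox B c₀.1 M'.p).proj c.unop).toImage ≫ imgι _ ι c.unop ≫ _ = f ≫ B.proj c.unop.1
    refine (Category.assoc _ _ _).symm.trans ((congrArg (· ≫ pullback.snd M'.p (B.map c.unop.2))
      (ι ≫ (baseApprox B c₀.1 M'.p).proj c.unop).toImage_imageι).trans ?_)
    refine (Category.assoc _ _ _).trans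
      ((congrArg (ι ≫ ·) (pbπ_snd (tailSys B c₀.1) M'.p c)).trans ?_)
    refine (Category.assoc _ _ _).symm.trans (congrArg (· ≫ B.proj c.unop.1) ?_)
    show (P.proj i ≫ M'.sq.isoPullback.hom) ≫ pullback.snd _ _ = f
    rw [Category.assoc, IsPullback.isoPullback_hom_snd, P.proj_hom]

end

end NoethApproxLib
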