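import Mathlib

/-!
# A closed immersion into a limit is one into a stage
-/

set_option autoImplicit false

universe u

open CategoryTheory CategoryTheory.Limits AlgebraicGeometry TopologicalSpace

namespace NoethApproxLib

noncomputable section

set_option backward.isDefEq.respectTransparency false in
theorem isClosedImmersion_of_surjective_app {X Y : Scheme.{u}} (f : X ⟶ Y) {K : Type u}
    (U : K → Y.Opens) (hU : ⨆ k, U k = ⊤) (haff : ∀ k, IsAffineOpen (U k))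
    (haff' : ∀ k, IsAffineOpen (f ⁻¹ᵁ U k)) (hs : ∀ k, Function.Surjective (f.app (U k))) :
    IsClosedImmersion f := by
  refine IsZariskiLocalAtTarget.of_iSup_eq_top (P := @IsClosedImmersion) U hU fun k ↦ ?_
  haveI : IsAffine (U k) := haff k
  haveI : IsAffine (f ⁻¹ᵁ U k) := haff' k
  refine IsClosedImmersion.of_surjective_of_isAffine _ fun z ↦ ?_
  obtain ⟨y, hy⟩ := hs k ((f ⁻¹ᵁ U k).topIso.hom z)
  refine ⟨(U k).topIso.inv y, ?_⟩
  rw [← Scheme.Hom.resLE_eq_morphismRestrict]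
  show ((U k).topIso.inv ≫ (f.resLE (U k) (f ⁻¹ᵁ U k) le_rfl).app ⊤) y = z
  rw [Scheme.Hom.resLE_app_top, Iso.inv_hom_id_assoc, ← Scheme.Hom.app_eq_appLE,
    CommRingCat.comp_apply, hy, ← CommRingCat.comp_apply, Iso.hom_inv_id]
  rfl

/-- A closed immersion into a limit, of finite type over the base, is a closed immersion into some
stage. -/
theorem exists_isClosedImmersion_comp {I : Type u} [SmallCategory I] [IsCofiltered I]
    {S : Scheme.{u}} (D : I ⥤ Scheme.{u}) (t : ∀ i, D.obj i ⟶ S)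
    (w : ∀ {i j} (a : i ⟶ j), D.map a ≫ t j = t i) (c : Cone D) (hc : IsLimit c)
    [∀ {i j : I} (a : i ⟶ j), IsAffineHom (D.map a)] [∀ i, CompactSpace (D.obj i)]
    {Y : Scheme.{u}} (h : Y ⟶ c.pt) [IsClosedImmersion h]
    (hft : ∀ i, LocallyOfFiniteType (h ≫ c.π.app i ≫ t i)) :
    ∃ i : I, ∀ (j : I), (j ⟶ i) → IsClosedImmersion (h ≫ c.π.app j) := by
  classical
  obtain ⟨i₀⟩ := IsCofiltered.nonempty (C := I)
  have key : ∀ x : D.obj i₀, ∃ (V : S.Opens) (U : (D.obj i₀).Opens),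
      IsAffineOpen V ∧ IsAffineOpen U ∧ x ∈ U ∧ U ≤ t i₀ ⁻¹ᵁ V := fun x ↦ by
    obtain ⟨V, hV, hxV, -⟩ :=
      exists_isAffineOpen_mem_and_subset (X := S) (x := t i₀ x) (U := ⊤) trivial
    obtain ⟨U, hU, hxU, hUV⟩ :=
      exists_isAffineOpen_mem_and_subset (X := D.obj i₀) (x := x) (U := t i₀ ⁻¹ᵁ V) hxV
    exact ⟨V, U, hV, hU, hxU, hUV⟩
  choose V U hV hU hxU hUV using key
  obtain ⟨σ, hσ⟩ := CompactSpace.elim_nhds_subcover (fun x ↦ (U x : Set (D.obj i₀)))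
    fun x ↦ (U x).isOpen.mem_nhds (hxU x)
  have hgen : ∀ x : D.obj i₀, ∃ (k : I) (a : k ⟶ i₀), ∀ (l : I) (b : l ⟶ k),
      Function.Surjective ((h ≫ c.π.app l).app (D.map (b ≫ a) ⁻¹ᵁ U x)) := by
    intro x
    have hW : IsAffineOpen (c.π.app i₀ ⁻¹ᵁ U x) :=
      haveI := isAffineHom_π_app D c hc i₀
      (hU x).preimage _
    let W : Y.Opens := h ⁻¹ᵁ (c.π.app i₀ ⁻¹ᵁ U x)
    have hle : W ≤ (h ≫ c.π.app i₀ ≫ t i₀) ⁻¹ᵁ V x := fun y hy ↦ hUV x hy
    have hf : ((h ≫ c.π.app i₀ ≫ t i₀).appLE (V x) W hle).hom.FiniteType :=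
      haveI := hft i₀
      Scheme.Hom.finiteType_appLE _ (hV x) (hW.preimage h) hle
    letI := ((h ≫ c.π.app i₀ ≫ t i₀).appLE (V x) W hle).hom.toAlgebra
    obtain ⟨G, hG⟩ := (hf : Algebra.FiniteType Γ(S, V x) Γ(Y, W)).out
    have hlift : ∀ y : Γ(Y, W), ∃ (k : I) (a : k ⟶ i₀) (z : Γ(D.obj k, D.map a ⁻¹ᵁ U x)),
        (h ≫ c.π.app k).appLE (D.map a ⁻¹ᵁ U x) W (by
          rw [← Scheme.Hom.comp_preimage, Category.assoc, c.w]
          exact (Scheme.Hom.comp_preimage h _ _).ge) z = y := by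
      intro y
      haveI : ∀ k : Over i₀, IsAffine ((opensDiagram D i₀ (U x)).obj k) := fun k ↦
        (hU x).preimage (D.map k.hom)
      obtain ⟨x', hx'⟩ := h.app_surjective _ hW y
      obtain ⟨k, b, hb⟩ := exists_appTop_π_eq_of_isAffine_of_isLimit (opensDiagram D i₀ (U x))
        (opensCone D c i₀ (U x)) (isLimitOpensCone D c hc i₀ (U x))
        ((c.π.app i₀ ⁻¹ᵁ U x).topIso.inv x')
      refine ⟨k.left, k.hom, (D.map k.hom ⁻¹ᵁ U x).topIso.hom b, ?_⟩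
      have hk : c.π.app i₀ ⁻¹ᵁ U x ≤ c.π.app k.left ⁻¹ᵁ (D.map k.hom ⁻¹ᵁ U x) := by
        rw [← Scheme.Hom.comp_preimage, c.w]
      have e : ((opensCone D c i₀ (U x)).π.app k).appTop = (D.map k.hom ⁻¹ᵁ U x).topIso.hom ≫
          (c.π.app k.left).appLE _ _ hk ≫ (c.π.app i₀ ⁻¹ᵁ U x).topIso.inv :=
        Scheme.Hom.resLE_app_top _ _
      have e1 : (c.π.app k.left).appLE _ _ hk ((D.map k.hom ⁻¹ᵁ U x).topIso.hom b) = x' := by
        refine (ConcreteCategory.bijective_of_isIso (C := CommRingCat)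
          (c.π.app i₀ ⁻¹ᵁ U x).topIso.inv).1 ?_
        rw [← hb, e]
        rfl
      rw [← hx', ← e1]
      show _ = ((c.π.app k.left).appLE _ _ hk ≫ h.app _) _
      rw [Scheme.Hom.app_eq_appLE h, Scheme.Hom.appLE_comp_appLE]
    choose kG aG zG hzG using hlift
    obtain ⟨k, a, hk⟩ : ∃ (k : I) (a : k ⟶ i₀),
        ∀ y ∈ G, ∃ b : k ⟶ kG y, b ≫ aG y = a := by
      let O : Finset I := insert i₀ (G.image kG)
      let H : Finset (Σ' (X Y : I) (_ : X ∈ O) (_ : Y ∈ O), X ⟶ Y) :=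
        G.attach.image fun y : {y // y ∈ G} ↦ ⟨kG y.1, i₀,
          Finset.mem_insert_of_mem (Finset.mem_image_of_mem _ y.2),
          Finset.mem_insert_self _ _, aG y.1⟩
      obtain ⟨k, T, hT⟩ := IsCofiltered.inf_exists O H
      exact ⟨k, T (Finset.mem_insert_self _ _), fun y hy ↦
        ⟨T (Finset.mem_insert_of_mem (Finset.mem_image_of_mem _ hy)),
          hT (Finset.mem_insert_of_mem (Finset.mem_image_of_mem _ hy)) (Finset.mem_insert_self _ _)
            (Finset.mem_image.mpr ⟨⟨y, hy⟩, Finset.mem_attach _ _, rfl⟩)⟩⟩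
    refine ⟨k, a, fun l b ↦ ?_⟩
    let Ul : (D.obj l).Opens := D.map (b ≫ a) ⁻¹ᵁ U x
    have heq : (h ≫ c.π.app l) ⁻¹ᵁ Ul = W := by
      show (h ≫ c.π.app l) ⁻¹ᵁ (D.map (b ≫ a) ⁻¹ᵁ U x) = h ⁻¹ᵁ (c.π.app i₀ ⁻¹ᵁ U x)
      rw [← Scheme.Hom.comp_preimage, ← Scheme.Hom.comp_preimage, Category.assoc, c.w]
    suffices hsur : Function.Surjective ((h ≫ c.π.app l).appLE Ul W heq.ge) by
      intro y
      obtain ⟨z, hz⟩ := hsur (Y.presheaf.map (eqToHom heq.symm).op y)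
      refine ⟨z, (ConcreteCategory.bijective_of_isIso (C := CommRingCat)
        (Y.presheaf.map (eqToHom heq.symm).op)).1 ?_⟩
      exact hz
    let R : Subring Γ(Y, W) := ((h ≫ c.π.app l).appLE Ul W heq.ge).hom.range
    have hall : ∀ y, y ∈ Algebra.adjoin Γ(S, V x) (G : Set Γ(Y, W)) → y ∈ R := by
      intro y hy
      induction hy using Algebra.adjoin_induction with
      | mem y hy =>
        obtain ⟨β, hβ⟩ := hk y hy
        have hle' : Ul ≤ D.map (b ≫ β) ⁻¹ᵁ (D.map (aG y) ⁻¹ᵁ U x) := by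
          rw [← Scheme.Hom.comp_preimage, ← D.map_comp, Category.assoc, hβ]
        refine ⟨(D.map (b ≫ β)).appLE _ Ul hle' (zG y), Eq.trans ?_ (hzG y)⟩
        show ((D.map (b ≫ β)).appLE _ Ul hle' ≫ (h ≫ c.π.app l).appLE Ul W heq.ge) (zG y) = _
        rw [Scheme.Hom.appLE_comp_appLE]
        have key : ∀ (n n' : Y ⟶ D.obj (kG y)), n = n' → ∀ h1 h2,
            n.appLE (D.map (aG y) ⁻¹ᵁ U x) W h1 = n'.appLE _ W h2 := by
          rintro n _ rfl h1 h2
          rfl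
        exact congrArg (fun m : Γ(D.obj (kG y), D.map (aG y) ⁻¹ᵁ U x) ⟶ Γ(Y, W) ↦ m (zG y))
          (key _ _ (by rw [Category.assoc, c.w]) _ _)
      | algebraMap s =>
        have hle' : Ul ≤ (D.map (b ≫ a) ≫ t i₀) ⁻¹ᵁ V x := fun z hz ↦ hUV x hz
        refine ⟨(D.map (b ≫ a) ≫ t i₀).appLE (V x) Ul hle' s, ?_⟩
        show ((D.map (b ≫ a) ≫ t i₀).appLE (V x) Ul hle' ≫
          (h ≫ c.π.app l).appLE Ul W heq.ge) s = _
        rw [Scheme.Hom.appLE_comp_appLE]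
        have key : ∀ (n n' : Y ⟶ S), n = n' → ∀ h1 h2,
            n.appLE (V x) W h1 = n'.appLE (V x) W h2 := by
          rintro n _ rfl h1 h2
          rfl
        exact congrArg (fun m : Γ(S, V x) ⟶ Γ(Y, W) ↦ m s)
          (key _ _ (by rw [Category.assoc, ← Category.assoc (c.π.app l), c.w]) _ _)
      | add p q _ _ hp hq => exact add_mem hp hq
      | mul p q _ _ hp hq => exact mul_mem hp hq
    exact fun y ↦ hall y (hG ▸ Algebra.mem_top)
  choose k a hk using hgen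
  let O : Finset I := insert i₀ (σ.image k)
  let H : Finset (Σ' (X Y : I) (_ : X ∈ O) (_ : Y ∈ O), X ⟶ Y) :=
    σ.attach.image fun x : {x // x ∈ σ} ↦ ⟨k x.1, i₀, Finset.mem_insert_of_mem (Finset.mem_image_of_mem _ x.2),
      Finset.mem_insert_self _ _, a x.1⟩
  obtain ⟨i, T, hT⟩ := IsCofiltered.inf_exists O H
  refine ⟨i, fun j β ↦ ?_⟩
  let m : D.obj j ⟶ D.obj i₀ := D.map (β ≫ T (Finset.mem_insert_self _ _))
  haveI := isAffineHom_π_app D c hc j
  refine isClosedImmersion_of_surjective_app _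
    (K := {x // x ∈ σ}) (fun x ↦ m ⁻¹ᵁ U x.1) ?_
    (fun x ↦ (hU x.1).preimage m)
    (fun x ↦ ((hU x.1).preimage m).preimage _) fun x ↦ ?_
  · refine eq_top_iff.mpr fun z _ ↦ ?_
    obtain ⟨x, hx, hzx⟩ := Set.mem_iUnion₂.mp (hσ.ge (Set.mem_univ (m z)))
    exact TopologicalSpace.Opens.mem_iSup.mpr ⟨⟨x, hx⟩, hzx⟩
  · have e := hT (Finset.mem_insert_of_mem (Finset.mem_image_of_mem _ x.2))
      (Finset.mem_insert_self _ _) (f := a x.1)
      (Finset.mem_image.mpr ⟨x, Finset.mem_attach _ _, rfl⟩)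
    show Function.Surjective ((h ≫ c.π.app j).app (D.map (β ≫ T _) ⁻¹ᵁ U x.1))
    rw [← e, ← Category.assoc]
    exact hk x.1 j _

end

end NoethApproxLib
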