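import Groth.Agent.NoethApproxLib.Systems

/-!
# Passing to a tail of a system; affine and finite morphisms
-/

set_option autoImplicit false

universe u

open CategoryTheory CategoryTheory.Limits AlgebraicGeometry Opposite

namespace NoethApproxLib

noncomputable section

namespace ApproxSys

variable {X S : Scheme.{u}} {f : X ⟶ S} (P : ApproxSys f)

theorem final_tail (j₀ : P.J) :
    (OrderHom.Subtype.val (fun j : P.J ↦ j₀ ≤ j)).monotone.functor.Final := by
  haveI : IsDirectedOrder {j : P.J // j₀ ≤ j} := ⟨fun a b ↦ by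
    obtain ⟨c, h₁, h₂⟩ := exists_ge_ge a.1 b.1
    exact ⟨⟨c, a.2.trans h₁⟩, h₁, h₂⟩⟩
  exact (Monotone.final_functor_iff _).mpr fun j ↦ by
    obtain ⟨k, h₁, h₂⟩ := exists_ge_ge j₀ j
    exact ⟨⟨k, h₁⟩, h₂⟩

/-- The tail of a system above an index. -/
def tail (j₀ : P.J) : ApproxSys f where
  J := {j : P.J // j₀ ≤ j}
  directed := ⟨fun a b ↦ by
    obtain ⟨c, h₁, h₂⟩ := exists_ge_ge a.1 b.1
    exact ⟨⟨c, a.2.trans h₁⟩, h₁, h₂⟩⟩
  nonempty := ⟨⟨j₀, le_rfl⟩⟩
  D := (OrderHom.Subtype.val (fun j : P.J ↦ j₀ ≤ j)).monotone.functor.op ⋙ P.D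
  π := Functor.whiskerLeft (OrderHom.Subtype.val (fun j : P.J ↦ j₀ ≤ j)).monotone.functor.op P.π
  isLimit :=
    haveI := P.final_tail j₀
    (Functor.Initial.isLimitWhiskerEquiv
      (OrderHom.Subtype.val (fun j : P.J ↦ j₀ ≤ j)).monotone.functor.op _).symm P.isLimit
  affine a := P.affine _
  lfp i := P.lfp _
  qc i := P.qc _
  qs i := P.qs _
  compactSpace i := P.compactSpace _
  quasiSeparatedSpace i := P.quasiSeparatedSpace _

theorem exists_isAffineHom [CompactSpace S] [QuasiSeparatedSpace S] [IsAffineHom f] :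
    ∃ j₀ : P.J, ∀ i, (i ⟶ op j₀) → IsAffineHom (P.D.obj i).hom := by
  obtain ⟨i₀⟩ := IsCofiltered.nonempty (C := P.Jᵒᵖ)
  let t : P.D ⋙ Over.forget S ⟶ (Functor.const P.Jᵒᵖ).obj S :=
    { app := fun i ↦ (P.D.obj i).hom
      naturality := fun i j a ↦ (Over.w (P.D.map a)).trans (Category.comp_id _).symm }
  haveI : IsAffineHom (P.cone.π.app i₀ ≫ t.app i₀) := by
    show IsAffineHom (P.proj i₀ ≫ (P.D.obj i₀).hom)
    rw [proj_hom]; infer_instance
  obtain ⟨i₁, h⟩ := Groth.Agent.S9200.result S (P.D ⋙ Over.forget S) t P.cone P.isLimitCone i₀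
  exact ⟨i₁.unop, fun i a ↦ h i a⟩

end ApproxSys

set_option backward.isDefEq.respectTransparency false in
theorem isAffineHom_of_isLimit_over {S : Scheme.{u}} {I : Type u} [SmallCategory I] [IsCofiltered I]
    (D : I ⥤ Over S) (c : Cone D) (hc : IsLimit c) (h : ∀ i, IsAffineHom (D.obj i).hom) :
    IsAffineHom c.pt.hom := by
  haveI : IsConnected I := IsCofiltered.isConnected I
  haveI : ∀ {i j : I} (a : i ⟶ j), IsAffineHom ((D ⋙ Over.forget S).map a) := fun {i j} a ↦ by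
    haveI := h i
    haveI := h j
    haveI : IsAffineHom ((D.map a).left ≫ (D.obj j).hom) := by rw [Over.w]; infer_instance
    exact IsAffineHom.of_comp (D.map a).left (D.obj j).hom
  obtain ⟨i⟩ := IsCofiltered.nonempty (C := I)
  haveI := h i
  haveI : IsAffineHom (c.π.app i).left :=
    isAffineHom_π_app (D ⋙ Over.forget S) ((Over.forget S).mapCone c)
      (isLimitOfPreserves (Over.forget S) hc) i
  rw [show c.pt.hom = (c.π.app i).left ≫ (D.obj i).hom from (Over.w (c.π.app i)).symm]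
  exact MorphismProperty.comp_mem _ _ _ ‹_› (h i)

variable {X S : Scheme.{u}}

theorem appLE_congr_eq {X Y : Scheme.{u}} {f g : X ⟶ Y} (e : f = g) {U : Y.Opens} {V V' : X.Opens}
    (eV : V = V') (h₁ : V ≤ f ⁻¹ᵁ U) (h₂ : V' ≤ g ⁻¹ᵁ U) (P : ∀ {A B : Type u} [CommRing A] [CommRing B],
      (A →+* B) → Prop) : P (f.appLE U V h₁).hom ↔ P (g.appLE U V' h₂).hom := by
  subst e; subst eV; rfl

theorem app_congr_zero {X Y : Scheme.{u}} {f g : X ⟶ Y} (e : f = g) {U : Y.Opens} (z : Γ(Y, U))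
    (h : g.app U z = 0) : f.app U z = 0 := by
  subst e; exact h

set_option backward.isDefEq.respectTransparency false in
theorem isFinite_of_cover {X Y : Scheme.{u}} (p : X ⟶ Y) [IsAffineHom p] {K : Type u}
    (V : K → Y.Opens) (hV : ⨆ k, V k = ⊤) (hA : ∀ k, IsAffineOpen (V k))
    (h : ∀ k, (p.appLE (V k) (p ⁻¹ᵁ V k) le_rfl).hom.Finite) : IsFinite p := by
  refine IsZariskiLocalAtTarget.of_iSup_eq_top (P := @IsFinite) V hV fun k ↦ ?_
  haveI : IsAffine (V k) := hA k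
  haveI : IsAffine (p ⁻¹ᵁ V k) := (hA k).preimage p
  rw [HasAffineProperty.iff_of_isAffine (P := @IsFinite)]
  refine ⟨inferInstance, ?_⟩
  have h1 := (RingHom.finite_respectsIso.arrow_mk_iso_iff
    (arrowResLEAppIso p (V k) (p ⁻¹ᵁ V k) le_rfl)).mpr (h k)
  rw [← Scheme.Hom.resLE_eq_morphismRestrict]
  exact h1

/-- Eventual finiteness along finite transition maps. -/
theorem exists_isFinite_of_isIntegral {I : Type u} [SmallCategory I] [IsCofiltered I] [CompactSpace S]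
    (D : I ⥤ Scheme.{u}) (p : ∀ i, D.obj i ⟶ S) (hp : ∀ {i j} (a : i ⟶ j), D.map a ≫ p j = p i)
    (c : Cone D) (hc : IsLimit c) (hfinm : ∀ {i j : I} (a : i ⟶ j), IsFinite (D.map a))
    (haff : ∀ i, IsAffineHom (p i)) (hlft : ∀ i, LocallyOfFiniteType (p i)) (i₀ : I)
    (hint' : IsIntegralHom (c.π.app i₀ ≫ p i₀)) :
    ∃ m, ∀ i, (i ⟶ m) → IsFinite (p i) := by
  classical
  haveI := haff
  haveI := hlft
  haveI : ∀ {i j : I} (a : i ⟶ j), IsAffineHom (D.map a) := fun a ↦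
    haveI := hfinm a
    inferInstance
  have hgen : ∀ V : S.affineOpens, ∃ k : I, ∀ i, (i ⟶ k) →
      ((p i).appLE V.1 (p i ⁻¹ᵁ V.1) le_rfl).hom.Finite := by
    intro V
    let U : (D.obj i₀).Opens := p i₀ ⁻¹ᵁ V.1
    have hU : IsAffineOpen U := V.2.preimage _
    let φ₀ : Γ(S, V.1) →+* Γ(D.obj i₀, U) := ((p i₀).app V.1).hom
    have hft : φ₀.FiniteType := by
      have := Scheme.Hom.finiteType_appLE (p i₀) V.2 hU le_rfl
      rwa [← Scheme.Hom.app_eq_appLE] at this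
    let φ : Γ(S, V.1) →+* Γ(c.pt, c.π.app i₀ ⁻¹ᵁ U) := ((c.π.app i₀).app U).hom.comp φ₀
    have hφ : φ.IsIntegral := by
      exact IsIntegralHom.isIntegral_app (c.π.app i₀ ≫ p i₀) V.1 V.2
    letI := φ₀.toAlgebra
    obtain ⟨G, hG⟩ := (hft : Algebra.FiniteType Γ(S, V.1) Γ(D.obj i₀, U)).out
    letI := φ.toAlgebra
    haveI hint₀ : Algebra.IsIntegral Γ(S, V.1) Γ(c.pt, c.π.app i₀ ⁻¹ᵁ U) := ⟨hφ⟩
    have hy : ∀ y : Γ(D.obj i₀, U), ∃ (k : I) (a : k ⟶ i₀) (q : Polynomial Γ(S, V.1)),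
        q.Monic ∧ ((D.map a).app U).hom (q.eval₂ φ₀ y) = 0 := by
      intro y
      obtain ⟨q, hq, hqy⟩ :=
        hint₀.isIntegral ((c.π.app i₀).app U y)
      obtain ⟨k, a, hka⟩ := exists_app_map_eq_zero_of_isLimit D c hc hU.isCompact
        (q.eval₂ φ₀ y) (by
          show ((c.π.app i₀).app U).hom (q.eval₂ φ₀ y) = 0
          rw [Polynomial.hom_eval₂]
          have e : (algebraMap Γ(S, V.1) Γ(c.pt, c.π.app i₀ ⁻¹ᵁ U)) = φ := rfl
          rw [← e] at *
          exact hqy)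
      exact ⟨k, a, q, hq, hka⟩
    choose k a q hq hk using hy
    let O : Finset I := insert i₀ (G.image k)
    let H : Finset (Σ' (X Y : I) (_ : X ∈ O) (_ : Y ∈ O), X ⟶ Y) :=
      G.attach.image fun y : {y // y ∈ G} ↦ ⟨k y.1, i₀,
        Finset.mem_insert_of_mem (Finset.mem_image_of_mem _ y.2), Finset.mem_insert_self _ _, a y.1⟩
    obtain ⟨m, T, hT⟩ := IsCofiltered.inf_exists O H
    refine ⟨m, fun i β ↦ ?_⟩
    let γ : i ⟶ i₀ := β ≫ T (Finset.mem_insert_self _ _)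
    haveI := hfinm γ
    let ψ : Γ(S, V.1) →+* Γ(D.obj i, D.map γ ⁻¹ᵁ U) := ((D.map γ).app U).hom.comp φ₀
    suffices hψ : ψ.Finite by
      refine (appLE_congr_eq (hp γ).symm (by rw [← hp γ]) le_rfl le_rfl
        (fun {A B} _ _ g ↦ g.Finite)).mpr ?_
      rw [← Scheme.Hom.app_eq_appLE]
      exact hψ
    letI := ψ.toAlgebra
    have hint : Algebra.IsIntegral Γ(S, V.1) Γ(D.obj i, D.map γ ⁻¹ᵁ U) := ⟨fun z ↦ by
      suffices hint : ∀ y, ((D.map γ).app U).hom y ∈
          integralClosure Γ(S, V.1) Γ(D.obj i, D.map γ ⁻¹ᵁ U) by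
        let C := integralClosure Γ(S, V.1) Γ(D.obj i, D.map γ ⁻¹ᵁ U)
        obtain ⟨P, hP, hPz⟩ :=
          RingHom.IsIntegral.of_finite (f := ((D.map γ).app U).hom) (IsFinite.finite_app (D.map γ) U hU) z
        let g' : Γ(D.obj i₀, U) →+* C := ((D.map γ).app U).hom.codRestrict C hint
        haveI : Algebra.IsIntegral Γ(S, V.1) C := inferInstance
        refine isIntegral_trans (R := Γ(S, V.1)) (A := C) z ⟨P.map g', hP.map g', ?_⟩
        rw [Polynomial.eval₂_map]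
        exact hPz
      intro y
      show IsIntegral Γ(S, V.1) _
      have hy : y ∈ Algebra.adjoin Γ(S, V.1) (G : Set Γ(D.obj i₀, U)) := hG ▸ Algebra.mem_top
      induction hy using Algebra.adjoin_induction with
      | mem y hy =>
        refine ⟨q y, hq y, ?_⟩
        let δ : i ⟶ k y := β ≫ T (Finset.mem_insert_of_mem (Finset.mem_image_of_mem _ hy))
        have hδ : δ ≫ a y = γ := by
          rw [Category.assoc]
          exact congrArg (β ≫ ·) (hT (Finset.mem_insert_of_mem (Finset.mem_image_of_mem _ hy))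
            (Finset.mem_insert_self _ _)
            (Finset.mem_image.mpr ⟨⟨y, hy⟩, Finset.mem_attach _ _, rfl⟩))
        have hz : (D.map γ).app U ((q y).eval₂ φ₀ y) = 0 :=
          app_congr_zero (by rw [← D.map_comp, hδ] : D.map γ = D.map δ ≫ D.map (a y)) _ (by
            show ((D.map δ).app _) ((D.map (a y)).app U ((q y).eval₂ φ₀ y)) = 0
            rw [show (D.map (a y)).app U ((q y).eval₂ φ₀ y) = 0 from hk y]
            exact map_zero _)
        show (q y).eval₂ (((D.map γ).app U).hom.comp φ₀) ((D.map γ).app U y) = 0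
        rw [← Polynomial.hom_eval₂]
        exact hz
      | algebraMap s => exact isIntegral_algebraMap (R := Γ(S, V.1)) (x := s)
      | add a b _ _ ha hb => rw [map_add]; exact ha.add hb
      | mul a b _ _ ha hb => rw [map_mul]; exact ha.mul hb⟩
    exact RingHom.IsIntegral.to_finite (fun z ↦ hint.isIntegral z)
      ((RingHom.Finite.finiteType (IsFinite.finite_app (D.map γ) U hU)).comp hft)
  choose k hk using hgen
  obtain ⟨s, hs⟩ := (isCompact_univ (X := S)).elim_finite_subcover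
    (fun U : S.affineOpens ↦ (U.1 : Set S)) (fun U ↦ U.1.isOpen) fun x _ ↦ by
      obtain ⟨U, hU, hxU, -⟩ := exists_isAffineOpen_mem_and_subset (X := S) (x := x) (U := ⊤) trivial
      exact Set.mem_iUnion.mpr ⟨⟨U, hU⟩, hxU⟩
  obtain ⟨m, hm⟩ := IsCofiltered.inf_objs_exists (s.image k)
  refine ⟨m, fun i β ↦ isFinite_of_cover (p i) (K := {V // V ∈ s}) (fun V ↦ V.1.1) ?_
    (fun V ↦ V.1.2) fun V ↦ ?_⟩
  · refine eq_top_iff.mpr fun x _ ↦ ?_
    obtain ⟨V, hV, hxV⟩ := Set.mem_iUnion₂.mp (hs (Set.mem_univ x))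
    exact TopologicalSpace.Opens.mem_iSup.mpr ⟨⟨V, hV⟩, hxV⟩
  · exact hk V.1 i (β ≫ (hm (Finset.mem_image_of_mem _ V.2)).some)

/-- A finite morphism is a limit of finite morphisms of finite presentation with closed immersions
as transition maps. -/
theorem exists_finite_system (f : X ⟶ S) [IsFinite f] [CompactSpace S] [QuasiSeparatedSpace S] :
    ∃ (P : ApproxSys f) (_ : ∀ {i j : P.Jᵒᵖ} (a : i ⟶ j), IsClosedImmersion (P.D.map a).left)
      (_ : ∀ i, IsClosedImmersion (P.proj i)), ∀ i, IsFinite (P.D.obj i).hom := by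
  haveI : CompactSpace X := QuasiCompact.compactSpace_of_compactSpace f
  haveI : QuasiSeparatedSpace X := quasiSeparatedSpace_of_quasiSeparated f
  obtain ⟨P, i₁, h⟩ := exists_isClosedImmersion_model f
  haveI := h i₁ (𝟙 i₁)
  suffices key : ∀ (f' : X ⟶ S) (Q : ApproxSys f'), IsFinite f' →
      (∀ {i j : Q.Jᵒᵖ} (a : i ⟶ j), IsClosedImmersion (Q.D.map a).left) →
      (∀ i, IsClosedImmersion (Q.proj i)) →
      ∃ (R : ApproxSys f') (_ : ∀ {i j : R.Jᵒᵖ} (a : i ⟶ j), IsClosedImmersion (R.D.map a).left)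
        (_ : ∀ i, IsClosedImmersion (R.proj i)), ∀ i, IsFinite (R.D.obj i).hom by
    obtain ⟨Q, hQ, hQπ, -⟩ := exists_closed_system (P.D.obj i₁).hom (P.proj i₁)
    have e : P.proj i₁ ≫ (P.D.obj i₁).hom = f := P.proj_hom i₁
    revert Q
    rw [e]
    exact fun Q hQ hQπ ↦ key f Q inferInstance hQ hQπ
  intro f' Q hf' hQ hQπ
  obtain ⟨j₀, hj₀⟩ := Q.exists_isAffineHom
  let R := Q.tail j₀
  obtain ⟨i₀⟩ := IsCofiltered.nonempty (C := R.Jᵒᵖ)
  obtain ⟨m, hm⟩ := exists_isFinite_of_isIntegral (R.D ⋙ Over.forget S) (fun i ↦ (R.D.obj i).hom)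
    (fun a ↦ Over.w (R.D.map a)) R.cone R.isLimitCone (fun a ↦ show IsFinite ((R.D.map a).left) from ((IsClosedImmersion.iff_isFinite_and_mono _).mp (hQ _)).1)
    (fun i ↦ hj₀ _ (homOfLE i.unop.2).op) (fun i ↦ @instLocallyOfFiniteTypeOfLocallyOfFinitePresentation _ _ _ (R.lfp i)) i₀ (by
      show IsIntegralHom (R.proj i₀ ≫ (R.D.obj i₀).hom)
      rw [R.proj_hom]
      haveI := hf'
      infer_instance)
  exact ⟨R.tail m.unop, fun a ↦ hQ _, fun i ↦ hQπ _, fun i ↦ hm _ (homOfLE i.unop.2).op⟩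

end

end NoethApproxLib
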