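import Groth.Agent.NoethApproxLib.Relative
import Groth.Agent.S9199
import Groth.Agent.S9200

/-!
# Systems of models of finite presentation
-/

set_option autoImplicit false

universe u

open CategoryTheory CategoryTheory.Limits AlgebraicGeometry Opposite

namespace NoethApproxLib

noncomputable section

/-- An inverse system over `S`, with affine transition maps, whose limit is a given `S`-scheme. -/
structure ApproxSys {X S : Scheme.{u}} (f : X ⟶ S) where
  J : Type u
  [preorder : Preorder J]
  [directed : IsDirectedOrder J]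
  [nonempty : Nonempty J]
  D : Jᵒᵖ ⥤ Over S
  π : (Functor.const Jᵒᵖ).obj (Over.mk f) ⟶ D
  isLimit : IsLimit (Cone.mk (Over.mk f) π)
  affine : ∀ {i j : Jᵒᵖ} (a : i ⟶ j), IsAffineHom (D.map a).left
  lfp : ∀ i, LocallyOfFinitePresentation (D.obj i).hom
  qc : ∀ i, QuasiCompact (D.obj i).hom
  qs : ∀ i, QuasiSeparated (D.obj i).hom
  compactSpace : ∀ i, CompactSpace (D.obj i).left
  quasiSeparatedSpace : ∀ i, QuasiSeparatedSpace (D.obj i).left

attribute [instance] ApproxSys.preorder ApproxSys.directed ApproxSys.nonempty ApproxSys.affine ApproxSys.lfp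
  ApproxSys.qc ApproxSys.qs ApproxSys.compactSpace ApproxSys.quasiSeparatedSpace

namespace ApproxSys

variable {X S : Scheme.{u}} {f : X ⟶ S} (P : ApproxSys f)

instance affine_forget {i j : P.Jᵒᵖ} (a : i ⟶ j) : IsAffineHom ((P.D ⋙ Over.forget S).map a) :=
  P.affine a

instance compact_forget (i : P.Jᵒᵖ) : CompactSpace ((P.D ⋙ Over.forget S).obj i) :=
  P.compactSpace i

instance qs_forget (i : P.Jᵒᵖ) : QuasiSeparatedSpace ((P.D ⋙ Over.forget S).obj i) :=
  P.quasiSeparatedSpace i

/-- The underlying cone of schemes. -/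
def cone : Cone (P.D ⋙ Over.forget S) := (Over.forget S).mapCone (Cone.mk (Over.mk f) P.π)

def isLimitCone : IsLimit P.cone :=
  haveI : IsConnected P.Jᵒᵖ := IsCofiltered.isConnected _
  isLimitOfPreserves (Over.forget S) P.isLimit

/-- The projection. -/
abbrev proj (i : P.Jᵒᵖ) : X ⟶ (P.D.obj i).left := (P.π.app i).left

theorem proj_hom (i : P.Jᵒᵖ) : P.proj i ≫ (P.D.obj i).hom = f := Over.w (P.π.app i)

theorem isAffineHom_proj (i : P.Jᵒᵖ) : IsAffineHom (P.proj i) :=
  isAffineHom_π_app (P.D ⋙ Over.forget S) P.cone P.isLimitCone i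

/-- Changing the base along a morphism. -/
def map {T : Scheme.{u}} (g : S ⟶ T) [LocallyOfFinitePresentation g] [QuasiCompact g]
    [QuasiSeparated g] : ApproxSys (f ≫ g) where
  J := P.J
  D := P.D ⋙ Over.map g
  π := Functor.whiskerRight P.π (Over.map g)
  isLimit :=
    haveI : IsConnected P.Jᵒᵖ := IsCofiltered.isConnected _
    isLimitOfReflects (Over.forget T) (show IsLimit ((Over.forget T).mapCone
      (Cone.mk (Over.mk (f ≫ g)) (Functor.whiskerRight P.π (Over.map g)))) from P.isLimitCone)
  affine a := P.affine a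
  lfp i := inferInstanceAs (LocallyOfFinitePresentation ((P.D.obj i).hom ≫ g))
  qc i := inferInstanceAs (QuasiCompact ((P.D.obj i).hom ≫ g))
  qs i := inferInstanceAs (QuasiSeparated ((P.D.obj i).hom ≫ g))
  compactSpace := P.compactSpace
  quasiSeparatedSpace := P.quasiSeparatedSpace

/-- Separatedness holds at a stage. -/
theorem exists_isSeparated [QuasiSeparatedSpace S] [IsSeparated f] :
    ∃ i₁, ∀ i, (i ⟶ i₁) → IsSeparated (P.D.obj i).hom := by
  obtain ⟨i₀⟩ := IsCofiltered.nonempty (C := P.Jᵒᵖ)
  let t : P.D ⋙ Over.forget S ⟶ (Functor.const P.Jᵒᵖ).obj S :=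
    { app := fun i ↦ (P.D.obj i).hom
      naturality := fun i j a ↦ (Over.w (P.D.map a)).trans (Category.comp_id _).symm }
  haveI : IsSeparated (P.cone.π.app i₀ ≫ t.app i₀) := by
    show IsSeparated (P.proj i₀ ≫ (P.D.obj i₀).hom)
    rw [proj_hom]; infer_instance
  exact (Groth.Agent.S9199.result S (P.D ⋙ Over.forget S) t P.cone P.isLimitCone i₀).imp
    fun i₁ h i a ↦ h i a

end ApproxSys

/-- Every qcqs scheme over a quasi-separated base is a limit of models of finite presentation. -/
theorem exists_system {X S : Scheme.{u}} (f : X ⟶ S) [CompactSpace X] [QuasiSeparatedSpace X]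
    [QuasiSeparatedSpace S] : Nonempty (ApproxSys f) := by
  obtain ⟨S₀, hS₀, f₀, rfl⟩ := exists_open_factor f
  haveI : CompactSpace (S₀ : Scheme.{u}) := isCompact_iff_compactSpace.mp hS₀
  haveI : QuasiSeparatedSpace (S₀ : Scheme.{u}) :=
    (isQuasiSeparated_iff_quasiSeparatedSpace _ S₀.2).mp (.of_quasiSeparatedSpace _)
  haveI : QuasiCompact S₀.ι := quasiCompact_of_compactSpace S₀.ι
  obtain ⟨A⟩ := exists_approx X
  obtain ⟨B⟩ := exists_approx (S₀ : Scheme.{u})
  let P : ApproxSys f₀ :=
    { J := StageHom A B f₀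
      D := relDiag A B f₀
      π := (relCone A B f₀).π
      isLimit := (nonempty_isLimit_relCone A B f₀).some
      affine := fun a ↦ isAffineHom_relMap (leOfHom a.unop)
      lfp := fun φ ↦ (relHom_props φ.unop).1
      qc := fun φ ↦ (relHom_props φ.unop).2.1
      qs := fun φ ↦ (relHom_props φ.unop).2.2
      compactSpace := fun φ ↦ compactSpace_relAt φ.unop
      quasiSeparatedSpace := fun φ ↦ quasiSeparatedSpace_relAt φ.unop }
  exact ⟨P.map S₀.ι⟩

variable {X S : Scheme.{u}} (f : X ⟶ S)

/-- A scheme locally of finite type is a closed subscheme of one of finite presentation. -/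
theorem exists_isClosedImmersion_model [CompactSpace X] [QuasiSeparatedSpace X]
    [QuasiSeparatedSpace S] [LocallyOfFiniteType f] :
    ∃ (P : ApproxSys f) (i₁ : P.Jᵒᵖ), ∀ i, (i ⟶ i₁) → IsClosedImmersion (P.proj i) := by
  obtain ⟨P⟩ := exists_system f
  haveI : IsClosedImmersion (show X ⟶ P.cone.pt from 𝟙 X) :=
    inferInstanceAs (IsClosedImmersion (𝟙 X))
  obtain ⟨i₁, h⟩ := exists_isClosedImmersion_comp (P.D ⋙ Over.forget S) (fun i ↦ (P.D.obj i).hom)
    (fun a ↦ Over.w (P.D.map a)) P.cone P.isLimitCone (show X ⟶ P.cone.pt from 𝟙 X) (fun i ↦ by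
      show LocallyOfFiniteType (𝟙 X ≫ P.proj i ≫ (P.D.obj i).hom)
      rw [Category.id_comp, ApproxSys.proj_hom]
      infer_instance)
  refine ⟨P, i₁, fun i a ↦ ?_⟩
  have h' : IsClosedImmersion (𝟙 X ≫ P.proj i) := h i a
  rwa [Category.id_comp] at h'

set_option backward.isDefEq.respectTransparency false in
/-- The system of closed subschemes of finite presentation around a closed subscheme. -/
theorem exists_closed_sys {Z : Scheme.{u}} [CompactSpace Z] [QuasiSeparatedSpace Z] (ι : X ⟶ Z)
    [IsClosedImmersion ι] :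
    ∃ P : ApproxSys ι, (∀ {i j : P.Jᵒᵖ} (a : i ⟶ j), IsClosedImmersion (P.D.map a).left) ∧
      ∀ i, IsClosedImmersion (P.D.obj i).hom := by
  obtain ⟨B⟩ := exists_approx Z
  let P : ApproxSys ι :=
    { J := B.J
      D := closedDiag B ι
      π := (closedCone B ι).π
      isLimit := (nonempty_isLimit_closedCone B ι).some
      affine := fun a ↦
        haveI := isClosedImmersion_closedMap B ι (leOfHom a.unop)
        (inferInstanceAs (IsAffineHom (closedMap B ι (leOfHom a.unop))))
      lfp := fun j ↦ lfp_closedι B ι j.unop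
      qc := fun j ↦
        haveI := isClosedImmersion_closedι B ι j.unop
        inferInstanceAs (QuasiCompact (closedι B ι j.unop))
      qs := fun j ↦
        haveI := isClosedImmersion_closedι B ι j.unop
        inferInstanceAs (QuasiSeparated (closedι B ι j.unop))
      compactSpace := fun j ↦
        haveI := isClosedImmersion_closedι B ι j.unop
        QuasiCompact.compactSpace_of_compactSpace (closedι B ι j.unop)
      quasiSeparatedSpace := fun j ↦
        haveI := isClosedImmersion_closedι B ι j.unop
        quasiSeparatedSpace_of_quasiSeparated (closedι B ι j.unop) }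
  exact ⟨P, fun a ↦ isClosedImmersion_closedMap B ι (leOfHom a.unop),
    fun j ↦ isClosedImmersion_closedι B ι j.unop⟩

set_option backward.isDefEq.respectTransparency false in
/-- The system of closed subschemes of finite presentation of a model. -/
theorem exists_closed_system {Z : Scheme.{u}} (g : Z ⟶ S) [LocallyOfFinitePresentation g]
    [QuasiCompact g] [QuasiSeparated g] [CompactSpace Z] [QuasiSeparatedSpace Z] (ι : X ⟶ Z)
    [IsClosedImmersion ι] :
    ∃ P : ApproxSys (ι ≫ g), (∀ {i j : P.Jᵒᵖ} (a : i ⟶ j), IsClosedImmersion (P.D.map a).left) ∧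
      (∀ i, IsClosedImmersion (P.proj i)) ∧
      ∀ i, ∃ q : (P.D.obj i).left ⟶ Z, IsClosedImmersion q ∧ q ≫ g = (P.D.obj i).hom ∧
        P.proj i ≫ q = ι := by
  obtain ⟨B⟩ := exists_approx Z
  let P : ApproxSys ι :=
    { J := B.J
      D := closedDiag B ι
      π := (closedCone B ι).π
      isLimit := (nonempty_isLimit_closedCone B ι).some
      affine := fun a ↦
        haveI := isClosedImmersion_closedMap B ι (leOfHom a.unop)
        (inferInstanceAs (IsAffineHom (closedMap B ι (leOfHom a.unop))))
      lfp := fun j ↦ lfp_closedι B ι j.unop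
      qc := fun j ↦
        haveI := isClosedImmersion_closedι B ι j.unop
        inferInstanceAs (QuasiCompact (closedι B ι j.unop))
      qs := fun j ↦
        haveI := isClosedImmersion_closedι B ι j.unop
        inferInstanceAs (QuasiSeparated (closedι B ι j.unop))
      compactSpace := fun j ↦
        haveI := isClosedImmersion_closedι B ι j.unop
        QuasiCompact.compactSpace_of_compactSpace (closedι B ι j.unop)
      quasiSeparatedSpace := fun j ↦
        haveI := isClosedImmersion_closedι B ι j.unop
        quasiSeparatedSpace_of_quasiSeparated (closedι B ι j.unop) }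
  refine ⟨P.map g, fun a ↦ isClosedImmersion_closedMap B ι (leOfHom a.unop), fun j ↦ ?_,
    fun j ↦ ⟨closedι B ι j.unop, isClosedImmersion_closedι B ι j.unop, rfl, pullback.lift_snd _ _ _⟩⟩
  show IsClosedImmersion (toClosedAt B ι j.unop)
  haveI : IsClosedImmersion (toClosedAt B ι j.unop ≫ closedι B ι j.unop) := by
    rw [show toClosedAt B ι j.unop ≫ closedι B ι j.unop = ι from pullback.lift_snd _ _ _]
    infer_instance
  exact IsClosedImmersion.of_comp _ (closedι B ι j.unop)

end

end NoethApproxLib
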