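import Mathlib

/-!
# Approximations of schemes by schemes of finite type over the integers
-/

set_option autoImplicit false

universe u

open CategoryTheory CategoryTheory.Limits AlgebraicGeometry Opposite

namespace NoethApproxLib

noncomputable section

/-- A directed inverse system of schemes of finite type over the integers with affine transition
maps, and a limit cone with vertex `X`. -/
structure Approx (X : Scheme.{u}) where
  J : Type u
  [preorder : Preorder J]
  [directed : IsDirectedOrder J]
  [nonempty : Nonempty J]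
  D : Jᵒᵖ ⥤ Scheme.{u}
  π : (Functor.const Jᵒᵖ).obj X ⟶ D
  isLimit : IsLimit (Cone.mk X π)
  affine : ∀ {i j : Jᵒᵖ} (a : i ⟶ j), IsAffineHom (D.map a)
  compact : ∀ i, CompactSpace (D.obj i)
  lft : ∀ i, LocallyOfFiniteType (specULiftZIsTerminal.from (D.obj i))

attribute [instance] Approx.preorder Approx.directed Approx.nonempty Approx.affine Approx.compact
  Approx.lft

namespace Approx

variable {X : Scheme.{u}} (A : Approx X)

abbrev obj (i : A.J) : Scheme.{u} := A.D.obj (op i)

abbrev map {i j : A.J} (h : i ≤ j) : A.obj j ⟶ A.obj i := A.D.map (homOfLE h).op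

abbrev proj (i : A.J) : X ⟶ A.obj i := A.π.app (op i)

abbrev cone : Cone A.D := Cone.mk X A.π

@[reassoc]
theorem proj_map {i j : A.J} (h : i ≤ j) : A.proj j ≫ A.map h = A.proj i :=
  A.cone.w (homOfLE h).op

@[reassoc]
theorem map_map {i j k : A.J} (h : i ≤ j) (h' : j ≤ k) :
    A.map h' ≫ A.map h = A.map (h.trans h') :=
  (A.D.map_comp _ _).symm

theorem map_self (i : A.J) : A.map (le_refl i) = 𝟙 _ := A.D.map_id _

theorem isLocallyNoetherian (i : A.Jᵒᵖ) : IsLocallyNoetherian (A.D.obj i) :=
  haveI : IsNoetherianRing (ULift.{u} ℤ) := isNoetherianRing_of_ringEquiv ℤ ULift.ringEquiv.symm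
  haveI : IsLocallyNoetherian (Spec (CommRingCat.of (ULift.{u} ℤ))) :=
    isLocallyNoetherian_Spec.mpr inferInstance
  LocallyOfFiniteType.isLocallyNoetherian (specULiftZIsTerminal.from (A.D.obj i))

instance quasiSeparatedSpace (i : A.Jᵒᵖ) : QuasiSeparatedSpace (A.D.obj i) :=
  haveI := A.isLocallyNoetherian i
  inferInstance

include A in
theorem compactSpace : CompactSpace X :=
  Scheme.compactSpace_of_isLimit A.D A.cone A.isLimit

theorem isAffineHom_proj (i : A.J) : IsAffineHom (A.proj i) :=
  isAffineHom_π_app A.D A.cone A.isLimit (op i)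

include A in
theorem quasiSeparatedSpace_pt : QuasiSeparatedSpace X :=
  haveI := A.isAffineHom_proj (Classical.arbitrary A.J)
  quasiSeparatedSpace_of_quasiSeparated (A.proj (Classical.arbitrary A.J))

end Approx

end

end NoethApproxLib
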