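import Mathlib

/-!
# Gluing two schemes along a common open subscheme
-/

set_option autoImplicit false

universe u

open CategoryTheory CategoryTheory.Limits AlgebraicGeometry

namespace NoethApproxLib

variable {W A B : Scheme.{u}} (a : W ⟶ A) (b : W ⟶ B) [IsOpenImmersion a] [IsOpenImmersion b]

noncomputable section

instance isOpenImmersion_span_map {i j : WalkingSpan} (f : i ⟶ j) :
    IsOpenImmersion ((span a b).map f) := by
  change WidePushoutShape.Hom i j at f
  cases f with
  | id => exact (inferInstanceAs (IsOpenImmersion ((span a b).map (𝟙 i))))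
  | init k =>
    cases k
    · exact ‹IsOpenImmersion a›
    · exact ‹IsOpenImmersion b›

instance hasPushout_of_isOpenImmersion : HasPushout a b := inferInstance

instance isOpenImmersion_inl : IsOpenImmersion (pushout.inl a b) :=
  inferInstanceAs (IsOpenImmersion (colimit.ι (span a b) WalkingSpan.left))

instance isOpenImmersion_inr : IsOpenImmersion (pushout.inr a b) :=
  inferInstanceAs (IsOpenImmersion (colimit.ι (span a b) WalkingSpan.right))

theorem glue_cases (x : ↥(pushout a b)) :
    x ∈ Set.range (pushout.inl a b) ∨ x ∈ Set.range (pushout.inr a b) := by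
  obtain ⟨i, xi, h⟩ := Scheme.IsLocallyDirected.ι_jointly_surjective (span a b) x
  rcases i with _ | _ | _
  · refine Or.inl ⟨a xi, ?_⟩
    rw [← h, ← colimit.w (span a b) WalkingSpan.Hom.fst]
    rfl
  · exact Or.inl ⟨xi, h⟩
  · exact Or.inr ⟨xi, h⟩

theorem inl_eq_inr_iff (x : A) (y : B) :
    pushout.inl a b x = pushout.inr a b y ↔ ∃ w : W, a w = x ∧ b w = y := by
  refine ⟨fun h ↦ ?_, ?_⟩
  · obtain ⟨k, fi, fj, z, hi, hj⟩ :=
      (Scheme.IsLocallyDirected.ι_eq_ι_iff (span a b) (i := WalkingSpan.left) (j := WalkingSpan.right)).mp h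
    rcases k with _ | _ | _
    · refine ⟨z, ?_, ?_⟩
      · rw [← hi, Subsingleton.elim fi WalkingSpan.Hom.fst]; rfl
      · rw [← hj, Subsingleton.elim fj WalkingSpan.Hom.snd]; rfl
    · nomatch fj
    · nomatch fi
  · rintro ⟨w, rfl, rfl⟩
    rw [← Scheme.Hom.comp_apply, ← Scheme.Hom.comp_apply, pushout.condition]

theorem preimage_range_inr : pushout.inl a b ⁻¹' Set.range (pushout.inr a b) = Set.range a := by
  ext x
  refine ⟨fun ⟨y, hy⟩ ↦ ?_, fun ⟨w, hw⟩ ↦ ⟨b w, ((inl_eq_inr_iff a b x _).mpr ⟨w, hw, rfl⟩).symm⟩⟩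
  obtain ⟨w, hw, -⟩ := (inl_eq_inr_iff a b x y).mp hy.symm
  exact ⟨w, hw⟩

theorem preimage_range_inl : pushout.inr a b ⁻¹' Set.range (pushout.inl a b) = Set.range b := by
  ext y
  refine ⟨fun ⟨x, hx⟩ ↦ ?_, fun ⟨w, hw⟩ ↦ ⟨a w, (inl_eq_inr_iff a b _ y).mpr ⟨w, rfl, hw⟩⟩⟩
  obtain ⟨w, -, hw⟩ := (inl_eq_inr_iff a b x y).mp hx
  exact ⟨w, hw⟩

theorem compactSpace_pushout [CompactSpace A] [CompactSpace B] : CompactSpace ↥(pushout a b) := by
  refine isCompact_univ_iff.mp ?_
  rw [show (Set.univ : Set ↥(pushout a b)) = Set.range (pushout.inl a b) ∪ Set.range (pushout.inr a b)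
    from (Set.eq_univ_of_forall (glue_cases a b)).symm]
  exact (isCompact_range (pushout.inl a b).continuous).union
    (isCompact_range (pushout.inr a b).continuous)

set_option backward.isDefEq.respectTransparency false in
theorem locallyOfFiniteType_pushout {T : Scheme.{u}} (g : pushout a b ⟶ T)
    [LocallyOfFiniteType (pushout.inl a b ≫ g)] [LocallyOfFiniteType (pushout.inr a b ≫ g)] :
    LocallyOfFiniteType g := by
  refine (IsZariskiLocalAtSource.iff_of_openCover (P := @LocallyOfFiniteType)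
    (Scheme.IsLocallyDirected.openCover (span a b))).mpr fun i ↦ ?_
  show LocallyOfFiniteType (colimit.ι (span a b) i ≫ g)
  rcases i with _ | _ | _
  · rw [← colimit.w (span a b) WalkingSpan.Hom.fst, Category.assoc]
    exact MorphismProperty.comp_mem _ a (pushout.inl a b ≫ g) inferInstance inferInstance
  · exact ‹LocallyOfFiniteType (pushout.inl a b ≫ g)›
  · exact ‹LocallyOfFiniteType (pushout.inr a b ≫ g)›

end

end NoethApproxLib
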