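import Mathlib

/-!
# Being a limit can be checked on an open cover of the diagram
-/

set_option autoImplicit false

universe u v

open CategoryTheory CategoryTheory.Limits AlgebraicGeometry

namespace NoethApproxLib

noncomputable section

variable {J : Type v} [Category.{v} J] [IsCofiltered J] {D : J ⥤ Scheme.{u}} (c : Cone D)

/-- Compatible pieces of a diagram and a cone. -/
structure Piece where
  F : J ⥤ Scheme.{u}
  ι : F ⟶ D
  isOpenImmersion : ∀ j, IsOpenImmersion (ι.app j)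
  preimage_range : ∀ {i j : J} (a : i ⟶ j), D.map a ⁻¹' Set.range (ι.app j) = Set.range (ι.app i)
  cone : Cone F
  isLimit : IsLimit cone
  p : cone.pt ⟶ c.pt
  isOpenImmersion_p : IsOpenImmersion p
  range_p : ∀ j, Set.range p = c.π.app j ⁻¹' Set.range (ι.app j)
  fac : ∀ j, p ≫ c.π.app j = cone.π.app j ≫ ι.app j

attribute [instance] Piece.isOpenImmersion Piece.isOpenImmersion_p

variable {c}

omit [IsCofiltered J] in
theorem Piece.hom_ext (P : Piece c) {T : Scheme.{u}} (m m' : T ⟶ c.pt)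
    (h : ∀ j, m ≫ c.π.app j = m' ≫ c.π.app j) (j₀ : J)
    (hr : Set.range (m ≫ c.π.app j₀) ⊆ Set.range (P.ι.app j₀)) : m = m' := by
  have hm : ∀ n : T ⟶ c.pt, n ≫ c.π.app j₀ = m ≫ c.π.app j₀ → Set.range n ⊆ Set.range P.p := by
    rintro n hn _ ⟨x, rfl⟩
    rw [P.range_p j₀]
    refine Set.mem_preimage.mpr ?_
    rw [← Scheme.Hom.comp_apply, hn]
    exact hr ⟨x, rfl⟩
  rw [← IsOpenImmersion.lift_fac P.p m (hm m rfl),
    ← IsOpenImmersion.lift_fac P.p m' (hm m' (h j₀).symm)]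
  refine congrArg (· ≫ P.p) (P.isLimit.hom_ext fun j ↦ ?_)
  rw [← cancel_mono (P.ι.app j), Category.assoc, Category.assoc, ← P.fac,
    IsOpenImmersion.lift_fac_assoc, IsOpenImmersion.lift_fac_assoc, h]

theorem Piece.range_subset (P : Piece c) (s : Cone D) {T : Scheme.{u}} (n : T ⟶ s.pt) (j₀ j : J)
    (h : Set.range (n ≫ s.π.app j₀) ⊆ Set.range (P.ι.app j₀)) :
    Set.range (n ≫ s.π.app j) ⊆ Set.range (P.ι.app j) := by
  rintro _ ⟨x, rfl⟩
  let l := IsCofiltered.min j₀ j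
  have h1 : s.π.app l (n x) ∈ Set.range (P.ι.app l) := by
    rw [← P.preimage_range (IsCofiltered.minToLeft j₀ j)]
    refine Set.mem_preimage.mpr ?_
    rw [← Scheme.Hom.comp_apply, s.w]
    exact h ⟨x, rfl⟩
  rw [← P.preimage_range (IsCofiltered.minToRight j₀ j)] at h1
  rw [← s.w (IsCofiltered.minToRight j₀ j)]
  exact h1

theorem Piece.exists_lift (P : Piece c) (s : Cone D) {T : Scheme.{u}} (n : T ⟶ s.pt) (j₀ : J)
    (h : Set.range (n ≫ s.π.app j₀) ⊆ Set.range (P.ι.app j₀)) :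
    ∃ m : T ⟶ c.pt, ∀ j, m ≫ c.π.app j = n ≫ s.π.app j := by
  let t : Cone P.F :=
    { pt := T
      π :=
        { app := fun j ↦ IsOpenImmersion.lift (P.ι.app j) (n ≫ s.π.app j) (P.range_subset s n j₀ j h)
          naturality := fun i j a ↦ by
            refine (Category.id_comp _).trans ?_
            rw [← cancel_mono (P.ι.app j), Category.assoc,
              IsOpenImmersion.lift_fac, P.ι.naturality, IsOpenImmersion.lift_fac_assoc,
              Category.assoc, s.w] } }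
  refine ⟨P.isLimit.lift t ≫ P.p, fun j ↦ ?_⟩
  rw [Category.assoc, P.fac, ← Category.assoc, P.isLimit.fac t j]
  exact IsOpenImmersion.lift_fac _ _ _

/-- A cone which is a limit on the members of an open cover of the diagram is a limit. -/
theorem nonempty_isLimit_of_pieces {K : Type u} (P : K → Piece c)
    (hcov : ∀ (j : J) (x : D.obj j), ∃ k, x ∈ Set.range ((P k).ι.app j)) : Nonempty (IsLimit c) := by
  obtain ⟨j₀⟩ := IsCofiltered.nonempty (C := J)
  have ext : ∀ {T : Scheme.{u}} (m m' : T ⟶ c.pt),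
      (∀ j, m ≫ c.π.app j = m' ≫ c.π.app j) → m = m' := by
    intro T m m' h
    let 𝒰 := T.openCoverOfIsOpenCover
      (fun k ↦ (m ≫ c.π.app j₀) ⁻¹ᵁ ((P k).ι.app j₀).opensRange)
      (eq_top_iff.mpr fun x _ ↦ TopologicalSpace.Opens.mem_iSup.mpr
        ((hcov j₀ ((m ≫ c.π.app j₀) x)).imp fun k hk ↦ hk))
    refine 𝒰.hom_ext _ _ fun k ↦ (P k).hom_ext _ _ (fun j ↦ by simp [h j]) j₀ ?_
    rintro _ ⟨x, rfl⟩
    exact x.2
  have ex : ∀ s : Cone D, ∃ m : s.pt ⟶ c.pt, ∀ j, m ≫ c.π.app j = s.π.app j := by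
    intro s
    let 𝒰 := s.pt.openCoverOfIsOpenCover
      (fun k ↦ (s.π.app j₀) ⁻¹ᵁ ((P k).ι.app j₀).opensRange)
      (eq_top_iff.mpr fun x _ ↦ TopologicalSpace.Opens.mem_iSup.mpr
        ((hcov j₀ (s.π.app j₀ x)).imp fun k hk ↦ hk))
    choose m hm using fun k ↦ (P k).exists_lift s (𝒰.f k) j₀ (by
      rintro _ ⟨x, rfl⟩
      exact x.2)
    refine ⟨𝒰.glueMorphisms m fun a b ↦ ext _ _ fun j ↦ ?_, fun j ↦ 𝒰.hom_ext _ _ fun k ↦ ?_⟩
    · refine (Category.assoc _ _ _).trans (((congrArg (_ ≫ ·) (hm a j)).trans ?_).trans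
        ((congrArg (_ ≫ ·) (hm b j)).symm.trans (Category.assoc _ _ _).symm))
      exact pullback.condition_assoc _
    · exact (Scheme.Cover.ι_glueMorphisms_assoc 𝒰 m _ k _).trans (hm k j)
  choose m hm using ex
  exact ⟨{ lift := m
           fac := hm
           uniq := fun s n hn ↦ ext _ _ fun j ↦ (hn j).trans (hm s j).symm }⟩

end

end NoethApproxLib
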