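import Groth.Agent.NoethApproxLib.Index
import Groth.Agent.NoethApproxLib.Glue
import Groth.Agent.NoethApproxLib.LimitCover

/-!
# Extending an approximation across an affine open
-/

set_option autoImplicit false

universe u

open CategoryTheory CategoryTheory.Limits AlgebraicGeometry Opposite TopologicalSpace

namespace NoethApproxLib

noncomputable section

/-- An approximation of `S` extending one of an open subscheme `V`. -/
structure Ext {V S : Scheme.{u}} (A : Approx V) (ι : V ⟶ S) where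
  B : Approx S
  α : B.J →o A.J
  inl : ∀ j, A.obj (α j) ⟶ B.obj j
  isOpenImmersion : ∀ j, IsOpenImmersion (inl j)
  nat : ∀ {i j : B.J} (h : i ≤ j), A.map (α.mono h) ≫ inl i = inl j ≫ B.map h
  preimage_range : ∀ {i j : B.J} (h : i ≤ j),
    B.map h ⁻¹' Set.range (inl i) = Set.range (inl j)
  fac : ∀ j, ι ≫ B.proj j = A.proj (α j) ≫ inl j
  proj_preimage : ∀ j, B.proj j ⁻¹' Set.range (inl j) = Set.range ι

attribute [instance] Ext.isOpenImmersion

set_option backward.isDefEq.respectTransparency false in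
theorem isAffineHom_restrict_of_isPullback {X Y U U' : Scheme.{u}} (f : X ⟶ Y) (a : U' ⟶ X)
    (b : U ⟶ Y) [IsOpenImmersion a] [IsOpenImmersion b] (f' : U' ⟶ U) [IsAffineHom f']
    (w : a ≫ f = f' ≫ b) (hr : f ⁻¹' Set.range b = Set.range a) :
    IsAffineHom (f ∣_ b.opensRange) := by
  have h : IsPullback a f' f b := IsOpenImmersion.isPullback f' a b f w (TopologicalSpace.Opens.ext hr) |>.flip
  have : IsAffineHom (pullback.snd f b) := by
    rw [← h.isoPullback_inv_snd]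
    infer_instance
  exact (MorphismProperty.arrow_mk_iso_iff (P := @IsAffineHom)
    (morphismRestrictOpensRange f b)).mpr this

namespace Setup

variable {V : Scheme.{u}} {A : Approx V} {R : CommRingCat.{u}} {W : V.Opens}
  {e : (W : Scheme.{u}) ⟶ Spec R} (σ : Setup A R W e) [IsOpenImmersion e]

/-- The ring of a model. -/
abbrev ring (M : σ.Model) : CommRingCat.{u} := CommRingCat.of M.P

def toR (M : σ.Model) : σ.ring M ⟶ R :=
  CommRingCat.ofHom ((RingHom.fst R Γ(σ.Wi M.i, ⊤)).comp M.P.val.toRingHom)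

def toW (M : σ.Model) : σ.ring M ⟶ Γ(σ.Wi M.i, ⊤) :=
  CommRingCat.ofHom ((RingHom.snd R Γ(σ.Wi M.i, ⊤)).comp M.P.val.toRingHom)

def ringMap {M N : σ.Model} (h : M ≤ N) : σ.ring M ⟶ σ.ring N :=
  CommRingCat.ofHom ((((σ.push h.choose).comp M.P.val).codRestrict N.P
    fun x ↦ h.choose_spec x x.2).toRingHom)

theorem ringMap_toR {M N : σ.Model} (h : M ≤ N) : σ.ringMap h ≫ σ.toR N = σ.toR M := by
  ext x
  exact σ.push_fst h.choose (x : σ.Amb M.i)

theorem ringMap_toW {M N : σ.Model} (h : M ≤ N) :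
    σ.ringMap h ≫ σ.toW N = σ.toW M ≫ (σ.wmap h.choose).appTop := by
  ext x
  exact σ.push_snd h.choose (x : σ.Amb M.i)

omit [IsOpenImmersion e] in
theorem ringMap_comp {M N O : σ.Model} (h : M ≤ N) (h' : N ≤ O) :
    σ.ringMap h ≫ σ.ringMap h' = σ.ringMap (h.trans h') := by
  refine CommRingCat.hom_ext (RingHom.ext fun (x : M.P) ↦ ?_)
  refine Subtype.ext ?_
  exact σ.push_push h.choose h'.choose (x : σ.Amb M.i)

omit [IsOpenImmersion e] in
theorem ringMap_self (M : σ.Model) : σ.ringMap (le_refl M) = 𝟙 _ := by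
  refine CommRingCat.hom_ext (RingHom.ext fun (x : M.P) ↦ ?_)
  refine Subtype.ext ?_
  exact σ.push_self (x : σ.Amb M.i)

def fk (M : σ.Model) (k : σ.K) : σ.ring M := (⟨_, M.mem k⟩ : M.P)

def emb (M : σ.Model) : (σ.Wi M.i : Scheme.{u}) ⟶ Spec (σ.ring M) :=
  (σ.Wi M.i : Scheme.{u}).toSpecΓ ≫ Spec.map (σ.toW M)

theorem emb_aux (M : σ.Model) : IsOpenImmersion (σ.emb M) ∧ Set.range (σ.emb M) =
    ⋃ k, (PrimeSpectrum.basicOpen (σ.fk M k) : Set (PrimeSpectrum (σ.ring M))) := by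
  refine isOpenImmersion_toSpecΓ_comp (σ.toW M) (σ.fk M) (fun k ↦ σ.isAffineOpen_gi M.i k)
    (σ.iSup_gi M.i) (fun k a ha ↦ ?_) fun k x ↦ ?_
  · have ha2 : (a : σ.Amb M.i).2 = 0 := ha
    obtain ⟨n, hn⟩ := σ.exists_pow_mul_eq_zero_of_ρ k (a : σ.Amb M.i).1
      ((σ.mem_compatible.mp (M.le a.2)).trans ((congrArg (σ.θ M.i) ha2).trans (map_zero _)))
    refine ⟨n, Subtype.ext (Prod.ext ?_ ?_)⟩
    · exact hn
    · show σ.gi M.i k ^ n * (a : σ.Amb M.i).2 = 0
      rw [ha2, mul_zero]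
  · obtain ⟨n, a, ha, e₁⟩ := M.good k x
    exact ⟨n, ⟨a, ha⟩, e₁⟩

instance isOpenImmersion_emb (M : σ.Model) : IsOpenImmersion (σ.emb M) := (σ.emb_aux M).1

theorem emb_map {M N : σ.Model} (h : M ≤ N) :
    σ.emb N ≫ Spec.map (σ.ringMap h) = σ.wmap h.choose ≫ σ.emb M := by
  rw [emb, emb, Category.assoc, ← Spec.map_comp, ringMap_toW, Spec.map_comp,
    ← Category.assoc, ← Scheme.toSpecΓ_naturality, Category.assoc]

theorem wproj_emb (M : σ.Model) :
    σ.wproj M.i ≫ σ.emb M = e ≫ Spec.map (σ.toR M) := by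
  have h : σ.toW M ≫ (σ.wproj M.i).appTop =
      σ.toR M ≫ (Scheme.ΓSpecIso R).inv ≫ e.appTop := by
    ext x
    exact (σ.mem_compatible.mp (M.le x.2)).symm
  rw [emb, ← Category.assoc, Scheme.toSpecΓ_naturality, Category.assoc, ← Spec.map_comp, h,
    Spec.map_comp, Spec.map_comp, ← Category.assoc, ← Category.assoc, ← Scheme.toSpecΓ_naturality,
    Category.assoc e, toSpecΓ_SpecMap_ΓSpecIso_inv, Category.comp_id]

theorem ringMap_fk {M N : σ.Model} (h : M ≤ N) (k : σ.K) : σ.ringMap h (σ.fk M k) = σ.fk N k := by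
  refine Subtype.ext (Prod.ext ?_ ?_)
  · exact σ.push_fst h.choose _
  · exact (σ.push_snd h.choose _).trans (σ.wmap_gi h.choose k)

theorem preimage_range_emb {M N : σ.Model} (h : M ≤ N) :
    Spec.map (σ.ringMap h) ⁻¹' Set.range (σ.emb M) ⊆ Set.range (σ.emb N) := by
  intro y hy
  obtain ⟨k, hk⟩ := Set.mem_iUnion.mp ((σ.emb_aux M).2.le hy)
  refine (σ.emb_aux N).2.ge (Set.mem_iUnion.mpr ⟨k, ?_⟩)
  rw [← σ.ringMap_fk h k]
  exact hk

/-- The model of the glued scheme. -/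
abbrev glued (M : σ.Model) : Scheme.{u} := pushout (σ.Wi M.i).ι (σ.emb M)

abbrev gl (M : σ.Model) : A.obj M.i.1 ⟶ σ.glued M := pushout.inl (σ.Wi M.i).ι (σ.emb M)

abbrev gr (M : σ.Model) : Spec (σ.ring M) ⟶ σ.glued M := pushout.inr (σ.Wi M.i).ι (σ.emb M)

def gmap {M N : σ.Model} (h : M ≤ N) : σ.glued N ⟶ σ.glued M :=
  pushout.desc (A.map h.choose ≫ σ.gl M) (Spec.map (σ.ringMap h) ≫ σ.gr M) (by
    rw [← Category.assoc, ← σ.wmap_ι h.choose, Category.assoc, pushout.condition,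
      ← Category.assoc, ← Category.assoc, emb_map])

theorem gl_gmap {M N : σ.Model} (h : M ≤ N) : σ.gl N ≫ σ.gmap h = A.map h.choose ≫ σ.gl M :=
  pushout.inl_desc _ _ _

theorem gr_gmap {M N : σ.Model} (h : M ≤ N) :
    σ.gr N ≫ σ.gmap h = Spec.map (σ.ringMap h) ≫ σ.gr M := pushout.inr_desc _ _ _

theorem gmap_self (M : σ.Model) : σ.gmap (le_refl M) = 𝟙 _ := by
  refine pushout.hom_ext ?_ ?_
  · rw [gl_gmap, A.map_self, Category.id_comp, Category.comp_id]
  · rw [gr_gmap, ringMap_self, Spec.map_id, Category.id_comp, Category.comp_id]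

theorem gmap_comp {M N O : σ.Model} (h : M ≤ N) (h' : N ≤ O) :
    σ.gmap h' ≫ σ.gmap h = σ.gmap (h.trans h') := by
  refine pushout.hom_ext ?_ ?_
  · rw [← Category.assoc, gl_gmap, Category.assoc, gl_gmap, gl_gmap, ← Category.assoc, A.map_map]
  · rw [← Category.assoc, gr_gmap, Category.assoc, gr_gmap, gr_gmap, ← Category.assoc,
      ← Spec.map_comp, ringMap_comp]

theorem preimage_range_gl {M N : σ.Model} (h : M ≤ N) :
    σ.gmap h ⁻¹' Set.range (σ.gl M) = Set.range (σ.gl N) := by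
  refine Set.Subset.antisymm (fun y hy ↦ ?_) ?_
  · rcases glue_cases _ _ y with hy' | ⟨z, rfl⟩
    · exact hy'
    rw [Set.mem_preimage, ← Scheme.Hom.comp_apply, gr_gmap, Scheme.Hom.comp_apply] at hy
    have h1 : Spec.map (σ.ringMap h) z ∈ Set.range (σ.emb M) :=
      (preimage_range_inl _ _).le hy
    obtain ⟨w, rfl⟩ := σ.preimage_range_emb h h1
    exact ⟨(σ.Wi N.i).ι w, ((inl_eq_inr_iff _ _ _ _).mpr ⟨w, rfl, rfl⟩)⟩
  · rintro _ ⟨x, rfl⟩
    rw [Set.mem_preimage, ← Scheme.Hom.comp_apply, gl_gmap, Scheme.Hom.comp_apply]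
    exact ⟨_, rfl⟩

theorem preimage_range_gr {M N : σ.Model} (h : M ≤ N) :
    σ.gmap h ⁻¹' Set.range (σ.gr M) = Set.range (σ.gr N) := by
  refine Set.Subset.antisymm (fun y hy ↦ ?_) ?_
  · rcases glue_cases _ _ y with ⟨x, rfl⟩ | hy'
    · rw [Set.mem_preimage, ← Scheme.Hom.comp_apply, gl_gmap, Scheme.Hom.comp_apply] at hy
      have h1 : A.map h.choose x ∈ Set.range (σ.Wi M.i).ι := (preimage_range_inr _ _).le hy
      have h2 : x ∈ σ.Wi N.i := (σ.preimage_Wi h.choose).le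
        ((σ.Wi M.i).range_ι.le h1)
      let w : ↥(σ.Wi N.i : Scheme.{u}) := ⟨x, h2⟩
      exact ⟨σ.emb N w, ((inl_eq_inr_iff _ _ _ _).mpr ⟨w, rfl, rfl⟩).symm⟩
    · exact hy'
  · rintro _ ⟨x, rfl⟩
    rw [Set.mem_preimage, ← Scheme.Hom.comp_apply, gr_gmap, Scheme.Hom.comp_apply]
    exact ⟨_, rfl⟩

set_option backward.isDefEq.respectTransparency false in
theorem isAffineHom_gmap {M N : σ.Model} (h : M ≤ N) : IsAffineHom (σ.gmap h) := by
  refine IsZariskiLocalAtTarget.of_iSup_eq_top (P := @IsAffineHom)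
    (fun b : ULift.{u} Bool ↦ cond b.down (σ.gl M).opensRange (σ.gr M).opensRange)
    (eq_top_iff.mpr fun x _ ↦ TopologicalSpace.Opens.mem_iSup.mpr ?_) fun b ↦ ?_
  · rcases glue_cases _ _ x with hx | hx
    · exact ⟨⟨true⟩, hx⟩
    · exact ⟨⟨false⟩, hx⟩
  rcases b with ⟨_ | _⟩
  · exact isAffineHom_restrict_of_isPullback (σ.gmap h) (σ.gr N) (σ.gr M)
      (Spec.map (σ.ringMap h)) (σ.gr_gmap h) (σ.preimage_range_gr h)
  · exact isAffineHom_restrict_of_isPullback (σ.gmap h) (σ.gl N) (σ.gl M)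
      (A.map h.choose) (σ.gl_gmap h) (σ.preimage_range_gl h)

theorem lft_glued (M : σ.Model) : LocallyOfFiniteType (specULiftZIsTerminal.from (σ.glued M)) := by
  have : LocallyOfFiniteType (pushout.inl (σ.Wi M.i).ι (σ.emb M) ≫
      specULiftZIsTerminal.from (σ.glued M)) := by
    rw [specULiftZIsTerminal.hom_ext (pushout.inl _ _ ≫ _)
      (specULiftZIsTerminal.from (A.obj M.i.1))]
    exact A.lft _
  have : LocallyOfFiniteType (pushout.inr (σ.Wi M.i).ι (σ.emb M) ≫
      specULiftZIsTerminal.from (σ.glued M)) := by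
    let c : CommRingCat.of (ULift.{u} ℤ) ⟶ σ.ring M :=
      CommRingCat.ofHom ((Int.castRingHom M.P).comp ULift.ringEquiv.toRingHom)
    rw [specULiftZIsTerminal.hom_ext (pushout.inr _ _ ≫ _) (Spec.map c),
      HasRingHomProperty.Spec_iff (P := @LocallyOfFiniteType)]
    have hf : (Int.castRingHom M.P).FiniteType := by
      have : Algebra.FiniteType ℤ M.P := ⟨(Subalgebra.fg_top _).mpr M.fg⟩
      convert RingHom.finiteType_algebraMap.mpr this
      exact (Subsingleton.elim _ _)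
    exact hf.comp (RingHom.FiniteType.of_surjective _ ULift.ringEquiv.surjective)
  exact locallyOfFiniteType_pushout _ _ _

/-- The glued diagram. -/
def gluedDiag : σ.Modelᵒᵖ ⥤ Scheme.{u} where
  obj M := σ.glued M.unop
  map a := σ.gmap (leOfHom a.unop)
  map_id M := σ.gmap_self M.unop
  map_comp a b := (σ.gmap_comp (leOfHom b.unop) (leOfHom a.unop)).symm

/-- The diagram of rings. -/
def ringDiag : σ.Model ⥤ CommRingCat.{u} where
  obj M := σ.ring M
  map a := σ.ringMap (leOfHom a)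
  map_id M := σ.ringMap_self M
  map_comp a b := (σ.ringMap_comp (leOfHom a) (leOfHom b)).symm

/-- The affine piece is the colimit of its models. -/
def ringCocone : Cocone σ.ringDiag where
  pt := R
  ι :=
    { app := σ.toR
      naturality := fun M N a ↦ (σ.ringMap_toR (leOfHom a)).trans (Category.comp_id _).symm }

theorem isColimit_ringCocone : Nonempty (IsColimit σ.ringCocone) := by
  haveI : ReflectsColimit σ.ringDiag (forget CommRingCat.{u}) :=
    reflectsColimit_of_reflectsIsomorphisms _ _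
  refine ⟨isColimitOfReflects (forget CommRingCat)
    (Types.FilteredColimit.isColimitOf _ _ (fun (x : R) => ?_) ?_)⟩
  · obtain ⟨M, y, hy, rfl⟩ := σ.exists_model_mem x
    exact ⟨M, ⟨y, hy⟩, rfl⟩
  · intro M N x y h
    obtain ⟨O, hM, hN⟩ := exists_ge_ge M N
    let x' : M.P := x
    let y' : N.P := y
    have h' : (x' : σ.Amb M.i).1 = (y' : σ.Amb N.i).1 := h
    have hx := hM.choose_spec x' x'.2
    have hy := hN.choose_spec y' y'.2
    obtain ⟨P, hP, hPe⟩ := σ.exists_model_eq O _ _ hx hy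
      ((σ.push_fst _ _).trans (h'.trans (σ.push_fst _ _).symm))
    exact ⟨P, homOfLE (hM.trans hP), homOfLE (hN.trans hP), Subtype.ext
      ((σ.push_push hM.choose hP.choose _).symm.trans (hPe.trans (σ.push_push hN.choose hP.choose _)))⟩

end Setup

end

end NoethApproxLib
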