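import Groth.Agent.NoethApproxLib.Main

/-!
# Approximation of morphisms
-/

set_option autoImplicit false

universe u

open CategoryTheory CategoryTheory.Limits AlgebraicGeometry Opposite

namespace NoethApproxLib

noncomputable section

namespace Approx

variable {X : Scheme.{u}} (A : Approx X)

/-- The structure maps to the terminal scheme. -/
def toZ : A.D ⟶ (Functor.const A.Jᵒᵖ).obj (Spec (CommRingCat.of (ULift.{u} ℤ))) where
  app i := specULiftZIsTerminal.from (A.D.obj i)
  naturality _ _ _ := specULiftZIsTerminal.hom_ext _ _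

/-- Maps to a scheme of finite presentation over the integers factor through a stage. -/
theorem exists_hom {T : Scheme.{u}} (hT : LocallyOfFiniteType (specULiftZIsTerminal.from T))
    (f : X ⟶ T) : ∃ (i : A.J) (g : A.obj i ⟶ T), A.proj i ≫ g = f := by
  haveI : IsNoetherianRing (ULift.{u} ℤ) := isNoetherianRing_of_ringEquiv ℤ ULift.ringEquiv.symm
  haveI : IsLocallyNoetherian (Spec (CommRingCat.of (ULift.{u} ℤ))) :=
    isLocallyNoetherian_Spec.mpr inferInstance
  haveI : LocallyOfFinitePresentation (specULiftZIsTerminal.from T) :=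
    LocallyOfFinitePresentation.iff_locallyOfFiniteType.mpr hT
  obtain ⟨i, g, hg, -⟩ := Scheme.exists_π_app_comp_eq_of_locallyOfFinitePresentation A.D A.toZ
    (specULiftZIsTerminal.from T) A.cone A.isLimit f (NatTrans.ext (funext fun i ↦
      specULiftZIsTerminal.hom_ext _ _))
  exact ⟨i.unop, g, hg⟩

/-- Two maps agreeing on the limit agree at a later stage. -/
theorem exists_map_eq {T : Scheme.{u}} (hT : LocallyOfFiniteType (specULiftZIsTerminal.from T))
    {i : A.J} (g g' : A.obj i ⟶ T) (h : A.proj i ≫ g = A.proj i ≫ g') :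
    ∃ (k : A.J) (hk : i ≤ k), A.map hk ≫ g = A.map hk ≫ g' := by
  haveI := hT
  obtain ⟨k, a, hk⟩ := Scheme.exists_hom_comp_eq_comp_of_locallyOfFiniteType A.D A.toZ
    (specULiftZIsTerminal.from T) A.cone A.isLimit g g' (specULiftZIsTerminal.hom_ext _ _)
    (specULiftZIsTerminal.hom_ext _ _) h
  exact ⟨k.unop, a.unop.le, hk⟩

/-- Reindexing along a cofinal monotone map. -/
def reindex {J : Type u} [Preorder J] [IsDirectedOrder J] [Nonempty J] (α : J →o A.J)
    (hα : ∀ i, ∃ j, i ≤ α j) : Approx X where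
  J := J
  D := α.monotone.functor.op ⋙ A.D
  π := Functor.whiskerLeft α.monotone.functor.op A.π
  isLimit :=
    haveI : α.monotone.functor.Final := (Monotone.final_functor_iff α.monotone).mpr hα
    (Functor.Initial.isLimitWhiskerEquiv α.monotone.functor.op A.cone).symm A.isLimit
  affine a := A.affine _
  compact i := A.compact _
  lft i := A.lft _

theorem reindex_proj {J : Type u} [Preorder J] [IsDirectedOrder J] [Nonempty J] (α : J →o A.J)
    (hα : ∀ i, ∃ j, i ≤ α j) (j : J) : (A.reindex α hα).proj j = A.proj (α j) := rfl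

theorem reindex_map {J : Type u} [Preorder J] [IsDirectedOrder J] [Nonempty J] (α : J →o A.J)
    (hα : ∀ i, ∃ j, i ≤ α j) {j j' : J} (h : j ≤ j') :
    (A.reindex α hα).map h = A.map (α.monotone h) := rfl

end Approx

variable {X S : Scheme.{u}} (A : Approx X) (B : Approx S) (f : X ⟶ S)

/-- A morphism between stages inducing the given morphism on the limits. -/
structure StageHom where
  i : A.J
  j : B.J
  hom : A.obj i ⟶ B.obj j
  fac : A.proj i ≫ hom = f ≫ B.proj j

namespace StageHom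

variable {A B f}

instance : LE (StageHom A B f) :=
  ⟨fun φ ψ ↦ ∃ (h : φ.i ≤ ψ.i) (h' : φ.j ≤ ψ.j), ψ.hom ≫ B.map h' = A.map h ≫ φ.hom⟩

instance : Preorder (StageHom A B f) where
  le_refl φ := ⟨le_rfl, le_rfl, by rw [Approx.map_self, Approx.map_self, Category.id_comp,
    Category.comp_id]⟩
  le_trans φ ψ χ := fun ⟨h₁, h₁', e₁⟩ ⟨h₂, h₂', e₂⟩ ↦ ⟨h₁.trans h₂, h₁'.trans h₂', by
    rw [← B.map_map h₁' h₂', ← Category.assoc, e₂, Category.assoc, e₁, ← Category.assoc,
      A.map_map]⟩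

theorem exists_ge (φ : StageHom A B f) (i : A.J) (j : B.J) :
    ∃ ψ : StageHom A B f, φ ≤ ψ ∧ i ≤ ψ.i ∧ j ≤ ψ.j := by
  obtain ⟨j', hj₁, hj₂⟩ := exists_ge_ge φ.j j
  obtain ⟨i₁, g, hg⟩ := A.exists_hom (B.lft (op j')) (f ≫ B.proj j')
  obtain ⟨i₂, h₁, h₂⟩ := exists_ge_ge φ.i i₁
  obtain ⟨i₃, h₃, h₄⟩ := exists_ge_ge i₂ i
  obtain ⟨k, hk, e⟩ := A.exists_map_eq (B.lft (op φ.j))
    ((A.map (h₂.trans h₃) ≫ g) ≫ B.map hj₁) (A.map (h₁.trans h₃) ≫ φ.hom) (by
      rw [← Category.assoc, ← Category.assoc, A.proj_map, hg, Category.assoc, B.proj_map,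
        ← Category.assoc, A.proj_map, φ.fac])
  have key : (A.map ((h₂.trans h₃).trans hk) ≫ g) ≫ B.map hj₁ =
      A.map ((h₁.trans h₃).trans hk) ≫ φ.hom := by
    rw [← A.map_map (h₂.trans h₃) hk, ← A.map_map (h₁.trans h₃) hk]
    simpa only [Category.assoc] using e
  exact ⟨⟨k, j', A.map ((h₂.trans h₃).trans hk) ≫ g, by rw [← Category.assoc, A.proj_map, hg]⟩,
    ⟨(h₁.trans h₃).trans hk, hj₁, key⟩, h₄.trans hk, hj₂⟩

instance : Nonempty (StageHom A B f) := by
  obtain ⟨j⟩ := B.nonempty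
  obtain ⟨i, g, hg⟩ := A.exists_hom (B.lft (op j)) (f ≫ B.proj j)
  exact ⟨⟨i, j, g, hg⟩⟩

instance : IsDirectedOrder (StageHom A B f) where
  directed φ ψ := by
    obtain ⟨χ, h₁, hi, hj⟩ := exists_ge φ ψ.i ψ.j
    obtain ⟨k, hk, e⟩ := A.exists_map_eq (B.lft (op ψ.j)) (χ.hom ≫ B.map hj) (A.map hi ≫ ψ.hom) (by
      rw [← Category.assoc, χ.fac, Category.assoc, B.proj_map, ← Category.assoc, A.proj_map, ψ.fac])
    have key : (A.map hk ≫ χ.hom) ≫ B.map hj = A.map (hi.trans hk) ≫ ψ.hom := by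
      rw [← A.map_map hi hk, Category.assoc, Category.assoc]
      exact e
    exact ⟨⟨k, χ.j, A.map hk ≫ χ.hom, by rw [← Category.assoc, A.proj_map, χ.fac]⟩,
      h₁.trans ⟨hk, le_rfl, by rw [B.map_self, Category.comp_id]⟩, ⟨hi.trans hk, hj, key⟩⟩

variable (A B f)

/-- The source index. -/
def src : StageHom A B f →o A.J := ⟨StageHom.i, fun _ _ h ↦ h.choose⟩

/-- The target index. -/
def tgt : StageHom A B f →o B.J := ⟨StageHom.j, fun _ _ h ↦ h.choose_spec.choose⟩

theorem src_cofinal (i : A.J) : ∃ φ : StageHom A B f, i ≤ src A B f φ := by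
  obtain ⟨φ⟩ := (inferInstance : Nonempty (StageHom A B f))
  obtain ⟨ψ, -, hi, -⟩ := exists_ge φ i φ.j
  exact ⟨ψ, hi⟩

theorem tgt_cofinal (j : B.J) : ∃ φ : StageHom A B f, j ≤ tgt A B f φ := by
  obtain ⟨φ⟩ := (inferInstance : Nonempty (StageHom A B f))
  obtain ⟨ψ, -, -, hj⟩ := exists_ge φ φ.i j
  exact ⟨ψ, hj⟩

/-- The morphism of the reindexed systems. -/
def natTrans : (A.reindex (src A B f) (src_cofinal A B f)).D ⟶
    (B.reindex (tgt A B f) (tgt_cofinal A B f)).D where
  app φ := φ.unop.hom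
  naturality φ ψ a := (leOfHom a.unop).choose_spec.choose_spec.symm

end StageHom

end

end NoethApproxLib
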