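import Groth.Agent.NoethApproxLib.Main
import Groth.Agent.NoethApproxLib.Stage2076
import Groth.Agent.NoethApproxLib.Mor

/-!
# Immersions into schemes of finite presentation over an arbitrary base
-/

set_option autoImplicit false

universe u

open CategoryTheory CategoryTheory.Limits AlgebraicGeometry Opposite

namespace NoethApproxLib

noncomputable section

variable {X : Scheme.{u}} (A : Approx X) (S : Scheme.{u})

abbrev ZS : Scheme.{u} := Spec (CommRingCat.of (ULift.{u} ℤ))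

/-- The system as schemes over the integers. -/
def overZ : A.Jᵒᵖ ⥤ Over ZS.{u} where
  obj i := Over.mk (specULiftZIsTerminal.from (A.D.obj i))
  map a := Over.homMk (A.D.map a) (specULiftZIsTerminal.hom_ext _ _)
  map_id i := Over.OverMorphism.ext (A.D.map_id i)
  map_comp a b := Over.OverMorphism.ext (A.D.map_comp a b)

def overZCone : Cone (overZ A) where
  pt := Over.mk (specULiftZIsTerminal.from X)
  π :=
    { app := fun i ↦ Over.homMk (A.π.app i) (specULiftZIsTerminal.hom_ext _ _)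
      naturality := fun i j a ↦ Over.OverMorphism.ext (A.π.naturality a) }

def isLimitOverZCone : IsLimit (overZCone A) :=
  haveI : IsConnected A.Jᵒᵖ := IsCofiltered.isConnected _
  isLimitOfReflects (Over.forget ZS.{u})
    (show IsLimit ((Over.forget ZS.{u}).mapCone (overZCone A)) from A.isLimit)

/-- The product of the system with a fixed scheme. -/
abbrev prodDiag : A.Jᵒᵖ ⥤ Scheme.{u} :=
  (overZ A ⋙ Over.pullback (specULiftZIsTerminal.from S)) ⋙ Over.forget S

abbrev prodCone : Cone (prodDiag A S) :=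
  (Over.forget S).mapCone ((Over.pullback (specULiftZIsTerminal.from S)).mapCone (overZCone A))

def isLimitProdCone : IsLimit (prodCone A S) :=
  haveI : IsConnected A.Jᵒᵖ := IsCofiltered.isConnected _
  isLimitOfPreserves (Over.forget S)
    (isLimitOfPreserves (Over.pullback (specULiftZIsTerminal.from S)) (isLimitOverZCone A))

theorem isAffineHom_prodDiag {i j : A.Jᵒᵖ} (a : i ⟶ j) : IsAffineHom ((prodDiag A S).map a) :=
  MorphismProperty.overPullbackMap (P := @IsAffineHom)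
    (specULiftZIsTerminal.from S) ((overZ A).map a) (A.affine a)

/-- The projection to a stage. -/
abbrev prodFst (i : A.Jᵒᵖ) : (prodDiag A S).obj i ⟶ A.D.obj i :=
  pullback.fst (specULiftZIsTerminal.from (A.D.obj i)) (specULiftZIsTerminal.from S)

/-- The projection to the fixed scheme. -/
abbrev prodSnd (i : A.Jᵒᵖ) : (prodDiag A S).obj i ⟶ S :=
  pullback.snd (specULiftZIsTerminal.from (A.D.obj i)) (specULiftZIsTerminal.from S)

/-- The projection to the limit. -/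
abbrev coneFst : (prodCone A S).pt ⟶ X :=
  pullback.fst (specULiftZIsTerminal.from X) (specULiftZIsTerminal.from S)

/-- The projection of the limit to the fixed scheme. -/
abbrev coneSnd : (prodCone A S).pt ⟶ S :=
  pullback.snd (specULiftZIsTerminal.from X) (specULiftZIsTerminal.from S)

theorem prodDiag_map_fst {i j : A.Jᵒᵖ} (a : i ⟶ j) :
    (prodDiag A S).map a ≫ prodFst A S j = prodFst A S i ≫ A.D.map a :=
  pullback.lift_fst _ _ _

theorem prodDiag_map_snd {i j : A.Jᵒᵖ} (a : i ⟶ j) :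
    (prodDiag A S).map a ≫ prodSnd A S j = prodSnd A S i :=
  pullback.lift_snd _ _ _

theorem prodCone_fst (i : A.Jᵒᵖ) :
    (prodCone A S).π.app i ≫ prodFst A S i = coneFst A S ≫ A.π.app i :=
  pullback.lift_fst _ _ _

theorem prodCone_snd (i : A.Jᵒᵖ) :
    (prodCone A S).π.app i ≫ prodSnd A S i = coneSnd A S :=
  pullback.lift_snd _ _ _

/-- A product of affine opens over an affine base is affine. -/
theorem isAffineOpen_prod {Y : Scheme.{u}} (y : Y ⟶ ZS.{u}) (s : S ⟶ ZS.{u})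
    {U : Y.Opens} {V : S.Opens} (hU : IsAffineOpen U) (hV : IsAffineOpen V) :
    IsAffineOpen (pullback.fst y s ⁻¹ᵁ U ⊓ pullback.snd y s ⁻¹ᵁ V) := by
  haveI : IsAffine U := hU
  haveI : IsAffine V := hV
  let m := pullback.map (U.ι ≫ y) (V.ι ≫ s) y s U.ι V.ι (𝟙 _) (Category.comp_id _) (Category.comp_id _)
  convert isAffineOpen_opensRange m
  refine TopologicalSpace.Opens.ext ?_
  show _ = Set.range m
  rw [Scheme.Pullback.range_map, Scheme.Opens.range_ι, Scheme.Opens.range_ι]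
  rfl

set_option backward.isDefEq.respectTransparency false in
/-- A scheme locally of finite type over an arbitrary base sits as a locally closed subscheme in a
scheme of finite presentation over that base. -/
theorem exists_isImmersion_model {X S : Scheme.{u}} (f : X ⟶ S) [LocallyOfFiniteType f]
    [CompactSpace X] [QuasiSeparatedSpace X] :
    ∃ (X' : Scheme.{u}) (f' : X' ⟶ S) (j : X ⟶ X'), LocallyOfFinitePresentation f' ∧
      QuasiCompact f' ∧ QuasiSeparated f' ∧ IsImmersion j ∧ j ≫ f' = f := by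
  classical
  obtain ⟨A⟩ := exists_approx X
  haveI : IsNoetherianRing (ULift.{u} ℤ) := isNoetherianRing_of_ringEquiv ℤ ULift.ringEquiv.symm
  haveI : IsLocallyNoetherian ZS.{u} := isLocallyNoetherian_Spec.mpr inferInstance
  -- a finite cover by affines, each mapping into an affine open of the base
  have key : ∀ x : X, ∃ (V : S.Opens) (U : X.Opens),
      IsAffineOpen V ∧ IsAffineOpen U ∧ x ∈ U ∧ U ≤ f ⁻¹ᵁ V := fun x ↦ by
    obtain ⟨V, hV, hxV, -⟩ :=
      exists_isAffineOpen_mem_and_subset (X := S) (x := f x) (U := ⊤) trivial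
    obtain ⟨U, hU, hxU, hUV⟩ :=
      exists_isAffineOpen_mem_and_subset (X := X) (x := x) (U := f ⁻¹ᵁ V) hxV
    exact ⟨V, U, hV, hU, hxU, hUV⟩
  choose V U hV hU hxU hUV using key
  obtain ⟨σ, hσ⟩ := CompactSpace.elim_nhds_subcover (fun x ↦ (U x : Set X))
    fun x ↦ (U x).isOpen.mem_nhds (hxU x)
  choose k U₀ hU₀ hU₀U using fun x ↦
    exists_isAffineOpen_preimage_eq A.D A.cone A.isLimit (U x) (hU x)
  obtain ⟨i, hi⟩ := IsCofiltered.inf_objs_exists (σ.image k)
  let T : ∀ x : {x // x ∈ σ}, i ⟶ k x.1 := fun x ↦ (hi (Finset.mem_image_of_mem _ x.2)).some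
  let D := prodDiag A S
  let c := prodCone A S
  haveI : ∀ {i j : A.Jᵒᵖ} (a : i ⟶ j), IsAffineHom (D.map a) := isAffineHom_prodDiag A S
  let O : {x // x ∈ σ} → (D.obj i).Opens := fun x ↦
    prodFst A S i ⁻¹ᵁ (A.D.map (T x) ⁻¹ᵁ U₀ x.1) ⊓ prodSnd A S i ⁻¹ᵁ V x.1
  have hO : ∀ x, IsAffineOpen (O x) := fun x ↦
    isAffineOpen_prod S _ _ ((hU₀ x.1).preimage (A.D.map (T x))) (hV x.1)
  let W₀ : (D.obj i).Opens := ⨆ x, O x
  have hW₀ : IsCompact (W₀ : Set (D.obj i)) := by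
    rw [TopologicalSpace.Opens.coe_iSup]
    exact isCompact_iUnion fun x ↦ (hO x).isCompact
  let OD := opensDiagram D i W₀
  let OC := opensCone D c i W₀
  haveI : ∀ l, CompactSpace (OD.obj l) := fun l ↦
    isCompact_iff_compactSpace.mp
      (QuasiCompact.isCompact_preimage (f := D.map l.hom) _ W₀.2 hW₀)
  -- the graph
  let g : X ⟶ c.pt := pullback.lift (𝟙 X) f (specULiftZIsTerminal.hom_ext _ _)
  have hg₁ : g ≫ coneFst A S = 𝟙 X := pullback.lift_fst _ _ _
  have hg₂ : g ≫ coneSnd A S = f := pullback.lift_snd _ _ _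
  have hgO : ∀ x, g ⁻¹ᵁ (c.π.app i ⁻¹ᵁ O x) = U x.1 := fun x ↦ by
    refine TopologicalSpace.Opens.ext ?_
    ext z
    show A.D.map (T x) ((g ≫ c.π.app i ≫ prodFst A S i) z) ∈ U₀ x.1 ∧
      (g ≫ c.π.app i ≫ prodSnd A S i) z ∈ V x.1 ↔ z ∈ U x.1
    rw [prodCone_fst, prodCone_snd, ← Category.assoc, hg₁, hg₂, Category.id_comp,
      ← Scheme.Hom.comp_apply, show A.π.app i ≫ A.D.map (T x) = A.π.app (k x.1) from A.cone.w (T x)]
    constructor
    · exact fun h ↦ (hU₀U x.1).le h.1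
    · exact fun h ↦ ⟨(hU₀U x.1).ge h, hUV x.1 h⟩
  have hgW : Set.range g ⊆ Set.range (c.π.app i ⁻¹ᵁ W₀).ι := by
    rw [Scheme.Opens.range_ι]
    rintro _ ⟨z, rfl⟩
    obtain ⟨x, hx, hzx⟩ := Set.mem_iUnion₂.mp (hσ.ge (Set.mem_univ z))
    exact TopologicalSpace.Opens.mem_iSup.mpr ⟨⟨x, hx⟩, (hgO ⟨x, hx⟩).ge hzx⟩
  let h : X ⟶ OC.pt := IsOpenImmersion.lift (c.π.app i ⁻¹ᵁ W₀).ι g hgW
  have hh : h ≫ (c.π.app i ⁻¹ᵁ W₀).ι = g := IsOpenImmersion.lift_fac _ _ _
  have haff : ∀ x : {x // x ∈ σ}, IsAffineOpen (c.π.app i ⁻¹ᵁ O x) :=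
    haveI := isAffineHom_π_app D c (isLimitProdCone A S) i
    fun x ↦ (hO x).preimage _
  haveI : IsClosedImmersion h := by
    have hpre : ∀ x, h ⁻¹ᵁ ((c.π.app i ⁻¹ᵁ W₀).ι ⁻¹ᵁ (c.π.app i ⁻¹ᵁ O x)) = U x.1 := fun x ↦ by
      rw [← Scheme.Hom.comp_preimage, hh, hgO]
    refine isClosedImmersion_of_surjective_app h
      (fun x ↦ (c.π.app i ⁻¹ᵁ W₀).ι ⁻¹ᵁ (c.π.app i ⁻¹ᵁ O x)) ?_
      (fun x ↦ (haff x).preimage_of_isOpenImmersion _ (by
        rw [Scheme.Opens.opensRange_ι]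
        exact Scheme.Hom.preimage_mono _ (le_iSup O x)))
      (fun x ↦ (hpre x).symm ▸ hU x.1) fun x ↦ ?_
    · refine eq_top_iff.mpr fun z _ ↦ ?_
      obtain ⟨x, hx⟩ := TopologicalSpace.Opens.mem_iSup.mp z.2
      exact TopologicalSpace.Opens.mem_iSup.mpr ⟨x, hx⟩
    · intro y
      let W' := (c.π.app i ⁻¹ᵁ W₀).ι ⁻¹ᵁ (c.π.app i ⁻¹ᵁ O x)
      have e : h ≫ ((c.π.app i ⁻¹ᵁ W₀).ι ≫ coneFst A S) = 𝟙 X := by
        rw [← Category.assoc, hh, hg₁]
      have hle : W' ≤ ((c.π.app i ⁻¹ᵁ W₀).ι ≫ coneFst A S) ⁻¹ᵁ (U x.1) := fun z hz ↦ by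
        refine (hU₀U x.1).le ?_
        show A.π.app (k x.1) _ ∈ U₀ x.1
        rw [← A.cone.w (T x)]
        show A.D.map (T x) ((coneFst A S ≫ A.π.app i) _) ∈ U₀ x.1
        rw [← prodCone_fst]
        exact hz.1
      refine ⟨((c.π.app i ⁻¹ᵁ W₀).ι ≫ coneFst A S).appLE (U x.1) W' hle
        (X.presheaf.map (eqToHom (hpre x).symm).op y), ?_⟩
      have key : ∀ (n : X ⟶ X), n = 𝟙 X → ∀ h2,
          n.appLE (U x.1) (h ⁻¹ᵁ W') h2 = X.presheaf.map (homOfLE (hpre x).le).op := by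
        rintro n rfl h2
        rw [Scheme.Hom.appLE, Scheme.Hom.id_app, Category.id_comp]
      have E : ((c.π.app i ⁻¹ᵁ W₀).ι ≫ coneFst A S).appLE (U x.1) W' hle ≫
          h.appLE W' (h ⁻¹ᵁ W') le_rfl = X.presheaf.map (homOfLE (hpre x).le).op :=
        (Scheme.Hom.appLE_comp_appLE h _ _ _ _ _ _).trans (key _ e _)
      rw [Scheme.Hom.app_eq_appLE]
      refine (congrArg (fun m : Γ(X, U x.1) ⟶ Γ(X, h ⁻¹ᵁ W') ↦
        m (X.presheaf.map (eqToHom (hpre x).symm).op y)) E).trans ?_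
      refine (CommRingCat.comp_apply _ _ y).symm.trans ?_
      rw [← Functor.map_comp]
      have h1 : ∀ φ : op (h ⁻¹ᵁ W') ⟶ op (h ⁻¹ᵁ W'), φ = 𝟙 _ := fun φ ↦ Subsingleton.elim _ _
      refine (congrArg (fun φ ↦ X.presheaf.map φ y) (h1 _)).trans ?_
      rw [CategoryTheory.Functor.map_id]
      rfl
  obtain ⟨l, hl⟩ := exists_isClosedImmersion_comp OD
    (fun l ↦ (D.map l.hom ⁻¹ᵁ W₀).ι ≫ prodSnd A S l.left)
    (fun {l m} a ↦ by
      show (D.map a.left).resLE _ _ _ ≫ (D.map m.hom ⁻¹ᵁ W₀).ι ≫ prodSnd A S m.left = _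
      rw [Scheme.Hom.resLE_comp_ι_assoc, prodDiag_map_snd])
    OC (isLimitOpensCone D c (isLimitProdCone A S) i W₀) h (fun l ↦ by
      have : h ≫ OC.π.app l ≫ (D.map l.hom ⁻¹ᵁ W₀).ι ≫ prodSnd A S l.left = f := by
        show h ≫ (c.π.app l.left).resLE _ _ _ ≫ _ ≫ _ = f
        rw [Scheme.Hom.resLE_comp_ι_assoc, prodCone_snd, ← Category.assoc, hh, hg₂]
      rw [this]
      infer_instance)
  haveI := hl l (𝟙 l)
  have hp : LocallyOfFinitePresentation (specULiftZIsTerminal.from (A.D.obj l.left)) :=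
    haveI := A.lft l.left
    LocallyOfFinitePresentation.iff_locallyOfFiniteType.mpr inferInstance
  haveI : CompactSpace (A.D.obj l.left) := A.compact _
  refine ⟨D.obj l.left, prodSnd A S l.left, (h ≫ OC.π.app l) ≫ (D.map l.hom ⁻¹ᵁ W₀).ι,
    MorphismProperty.pullback_snd _ _ hp,
    MorphismProperty.pullback_snd _ _ (quasiCompact_of_compactSpace _),
    MorphismProperty.pullback_snd _ _ (QuasiSeparated.of_quasiSeparatedSpace _), inferInstance, ?_⟩
  show ((h ≫ (c.π.app l.left).resLE _ _ _) ≫ _) ≫ _ = f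
  rw [Category.assoc, Category.assoc, Scheme.Hom.resLE_comp_ι_assoc, prodCone_snd,
    ← Category.assoc, hh, hg₂]

end

end NoethApproxLib
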