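import Groth.Agent.NoethApproxLib.Stage

/-!
# Finitely generated models of an affine open piece
-/

set_option autoImplicit false

universe u

open CategoryTheory CategoryTheory.Limits AlgebraicGeometry Opposite TopologicalSpace

namespace NoethApproxLib

noncomputable section

variable {V : Scheme.{u}} {A : Approx V} {R : CommRingCat.{u}} {W : V.Opens}
  {e : (W : Scheme.{u}) ⟶ Spec R}

namespace Setup

variable (σ : Setup A R W e)

/-- The product in which the models at a stage live. -/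
abbrev Amb (i : σ.Above) : Type u := R × Γ(σ.Wi i, ⊤)

/-- Compatible pairs. -/
def compatible (i : σ.Above) : Subalgebra ℤ (σ.Amb i) :=
  subalgebraOfSubring ((σ.ρ.comp (RingHom.fst R Γ(σ.Wi i, ⊤))).eqLocus
    ((σ.θ i).comp (RingHom.snd R Γ(σ.Wi i, ⊤))))

theorem mem_compatible {i : σ.Above} {x : σ.Amb i} :
    x ∈ σ.compatible i ↔ σ.ρ x.1 = σ.θ i x.2 := Iff.rfl

/-- A finitely generated model of the affine piece at a stage. -/
structure Model where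
  i : σ.Above
  P : Subalgebra ℤ (σ.Amb i)
  fg : P.FG
  le : P ≤ σ.compatible i
  mem : ∀ k, ((σ.f k, σ.gi i k) : σ.Amb i) ∈ P
  good : ∀ k (x : Γ(σ.Wi i, ⊤)), ∃ (n : ℕ) (a : σ.Amb i), a ∈ P ∧ a.2 = σ.gi i k ^ n * x

/-- Moving pairs to a later stage. -/
def push {i j : σ.Above} (h : i.1 ≤ j.1) : σ.Amb i →ₐ[ℤ] σ.Amb j :=
  ((AlgHom.fst ℤ R Γ(σ.Wi i, ⊤)).prod ((σ.τ h).toIntAlgHom.comp (AlgHom.snd ℤ R Γ(σ.Wi i, ⊤))))

theorem push_fst {i j : σ.Above} (h : i.1 ≤ j.1) (x : σ.Amb i) : (σ.push h x).1 = x.1 := rfl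

theorem push_snd {i j : σ.Above} (h : i.1 ≤ j.1) (x : σ.Amb i) :
    (σ.push h x).2 = σ.τ h x.2 := rfl

theorem push_self {i : σ.Above} (x : σ.Amb i) : σ.push (le_refl i.1) x = x := by
  refine Prod.ext (σ.push_fst _ _) ?_
  rw [push_snd, τ, wmap_self]
  rfl

theorem push_push {i j l : σ.Above} (h : i.1 ≤ j.1) (h' : j.1 ≤ l.1) (x : σ.Amb i) :
    σ.push h' (σ.push h x) = σ.push (h.trans h') x := by
  refine Prod.ext ((σ.push_fst _ _).trans ((σ.push_fst _ _).trans (σ.push_fst _ _).symm)) ?_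
  rw [push_snd, push_snd, push_snd, τ, τ, τ, ← σ.wmap_wmap h h', Scheme.Hom.comp_appTop]
  rfl

theorem push_mem_compatible {i j : σ.Above} (h : i.1 ≤ j.1) {x : σ.Amb i}
    (hx : x ∈ σ.compatible i) : σ.push h x ∈ σ.compatible j := by
  rw [mem_compatible, push_fst, push_snd, θ_τ]
  exact hx

theorem gi_mem_compatible (i : σ.Above) (k : σ.K) :
    ((σ.f k, σ.gi i k) : σ.Amb i) ∈ σ.compatible i := σ.mem_compatible.mpr (σ.θ_gi i k).symm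

theorem exists_generators (i : σ.Above) (k : σ.K) :
    ∃ T : Finset Γ(σ.Wi i, ⊤), ∀ S : Subring Γ(σ.Wi i, ⊤), σ.gi i k ∈ S → ((T : Set Γ(σ.Wi i, ⊤)) ⊆ (S : Set Γ(σ.Wi i, ⊤))) →
      ∀ x, ∃ n : ℕ, σ.gi i k ^ n * x ∈ S := by
  classical
  let X : Scheme.{u} := σ.Wi i
  let g : Γ(X, ⊤) := σ.gi i k
  let B := Γ(X, X.basicOpen g)
  haveI : IsLocalization.Away g B :=
    isLocalization_basicOpen_of_qcqs isCompact_univ isQuasiSeparated_univ g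
  let t : X ⟶ Spec (CommRingCat.of (ULift.{u} ℤ)) := specULiftZIsTerminal.from X
  haveI : LocallyOfFiniteType t := by
    rw [show t = (σ.Wi i).ι ≫ specULiftZIsTerminal.from (A.obj i.1) from
      specULiftZIsTerminal.hom_ext _ _]
    infer_instance
  have hft : (t.appLE ⊤ (X.basicOpen g) le_top).hom.FiniteType :=
    t.finiteType_appLE (isAffineOpen_top _) (σ.isAffineOpen_gi i k) le_top
  letI := (t.appLE ⊤ (X.basicOpen g) le_top).hom.toAlgebra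
  obtain ⟨G, hG⟩ := (hft : Algebra.FiniteType Γ(Spec (CommRingCat.of (ULift.{u} ℤ)), ⊤) B).out
  let num : B → Γ(X, ⊤) := fun z ↦ (IsLocalization.surj (Submonoid.powers g) z).choose.1
  refine ⟨G.image num, fun S hgS hTS ↦ ?_⟩
  let al : Γ(X, ⊤) →+* B := algebraMap Γ(X, ⊤) B
  let S' : Subring Γ(X, ⊤) :=
    { carrier := {x | ∃ n : ℕ, g ^ n * x ∈ S}
      zero_mem' := ⟨0, by simp⟩
      one_mem' := ⟨0, by simp⟩
      add_mem' := fun {a b} ⟨m, hm⟩ ⟨n, hn⟩ ↦ ⟨m + n, by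
        rw [show g ^ (m + n) * (a + b) = g ^ n * (g ^ m * a) + g ^ m * (g ^ n * b) by ring]
        exact add_mem (mul_mem (pow_mem hgS n) hm) (mul_mem (pow_mem hgS m) hn)⟩
      neg_mem' := fun {a} ⟨m, hm⟩ ↦ ⟨m, by rw [mul_neg]; exact neg_mem hm⟩
      mul_mem' := fun {a b} ⟨m, hm⟩ ⟨n, hn⟩ ↦ ⟨m + n, by
        rw [show g ^ (m + n) * (a * b) = (g ^ m * a) * (g ^ n * b) by ring]
        exact mul_mem hm hn⟩ }
  let E : Subring B :=
    { carrier := {z | ∃ (m : ℕ) (a : Γ(X, ⊤)), a ∈ S' ∧ z * al (g ^ m) = al a}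
      zero_mem' := ⟨0, 0, S'.zero_mem, by simp⟩
      one_mem' := ⟨0, 1, S'.one_mem, by simp⟩
      add_mem' := fun {z w} ⟨m, a, ha, e₁⟩ ⟨n, b, hb, e₂⟩ ↦ ⟨m + n, g ^ n * a + g ^ m * b,
        add_mem (mul_mem (pow_mem (⟨0, by simpa using hgS⟩ : g ∈ S') n) ha)
          (mul_mem (pow_mem (⟨0, by simpa using hgS⟩ : g ∈ S') m) hb), by
        rw [pow_add, map_add, map_mul, map_mul, map_mul, ← e₁, ← e₂]
        ring⟩
      neg_mem' := fun {z} ⟨m, a, ha, e₁⟩ ↦ ⟨m, -a, neg_mem ha, by rw [map_neg, ← e₁, neg_mul]⟩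
      mul_mem' := fun {z w} ⟨m, a, ha, e₁⟩ ⟨n, b, hb, e₂⟩ ↦ ⟨m + n, a * b, mul_mem ha hb, by
        rw [pow_add, map_mul, map_mul, ← e₁, ← e₂]
        ring⟩ }
  have hE : ∀ z : B, z ∈ E := fun z ↦ by
    have hz : z ∈ Algebra.adjoin Γ(Spec (CommRingCat.of (ULift.{u} ℤ)), ⊤) (G : Set B) :=
      hG ▸ Algebra.mem_top
    induction hz using Algebra.adjoin_induction with
    | mem y hy =>
      have e₁ := (IsLocalization.surj (Submonoid.powers g) y).choose_spec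
      obtain ⟨m, hm⟩ := (IsLocalization.surj (Submonoid.powers g) y).choose.2.2
      replace hm : g ^ m = ((IsLocalization.surj (Submonoid.powers g) y).choose.2 : Γ(X, ⊤)) := hm
      exact ⟨m, num y, ⟨0, by simpa using hTS (Finset.mem_image_of_mem num hy)⟩,
        hm ▸ e₁⟩
    | algebraMap c =>
      obtain ⟨c', rfl⟩ := (Scheme.ΓSpecIso (CommRingCat.of (ULift.{u} ℤ))).commRingCatIsoToRingEquiv.symm.surjective c
      obtain ⟨c'', rfl⟩ := ULift.ringEquiv.symm.surjective c'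
      have := eq_intCast (((algebraMap Γ(Spec (CommRingCat.of (ULift.{u} ℤ)), ⊤) B).comp
        (Scheme.ΓSpecIso (CommRingCat.of (ULift.{u} ℤ))).commRingCatIsoToRingEquiv.symm.toRingHom).comp
          (ULift.ringEquiv (R := ℤ)).symm.toRingHom) c''
      refine (congrArg (· ∈ E) this).mpr ?_
      exact intCast_mem E c''
    | add a b _ _ ha hb => exact add_mem ha hb
    | mul a b _ _ ha hb => exact mul_mem ha hb
  intro x
  obtain ⟨m, a, ⟨n, ha⟩, e₁⟩ := hE (al x)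
  rw [← map_mul] at e₁
  obtain ⟨⟨_, l, rfl⟩, hl⟩ := IsLocalization.exists_of_eq (M := Submonoid.powers g) e₁
  refine ⟨n + l + m, ?_⟩
  have : g ^ (n + l + m) * x = g ^ l * (g ^ n * a) := by
    have hl' : g ^ l * (x * g ^ m) = g ^ l * a := hl
    calc g ^ (n + l + m) * x = g ^ n * (g ^ l * (x * g ^ m)) := by ring
      _ = g ^ n * (g ^ l * a) := by rw [hl']
      _ = g ^ l * (g ^ n * a) := by ring
  show g ^ _ * x ∈ S
  rw [this]
  exact mul_mem (pow_mem hgS l) ha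

theorem exists_model [IsOpenImmersion e] (i : σ.Above) (F : Set (σ.Amb i)) (hF : F.Finite)
    (hFc : F ⊆ σ.compatible i) :
    ∃ P : Subalgebra ℤ (σ.Amb i), P.FG ∧ P ≤ σ.compatible i ∧
      (∀ k, ((σ.f k, σ.gi i k) : σ.Amb i) ∈ P) ∧
      (∀ k (x : Γ(σ.Wi i, ⊤)), ∃ (n : ℕ) (a : σ.Amb i), a ∈ P ∧ a.2 = σ.gi i k ^ n * x) ∧
      F ⊆ P := by
  classical
  choose T hT using fun k ↦ σ.exists_generators i k
  have hlift : ∀ k, ∀ t : Γ(σ.Wi i, ⊤), ∃ (m : ℕ) (r : R),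
      σ.ρ r = σ.θ i (σ.gi i k ^ m * t) := fun k t ↦ by
    obtain ⟨m, r, h⟩ := σ.exists_pow_mul_eq_ρ (σ.θ i t) k
    exact ⟨m, r, by rw [h, map_mul, map_pow, θ_gi]⟩
  choose m r hr using hlift
  let F' : Set (σ.Amb i) := F ∪ Set.range (fun k ↦ ((σ.f k, σ.gi i k) : σ.Amb i)) ∪
    ⋃ k, (fun t ↦ ((r k t, σ.gi i k ^ m k t * t) : σ.Amb i)) '' (T k : Set _)
  have hF' : F'.Finite := (hF.union (Set.finite_range _)).union
    (Set.finite_iUnion fun k ↦ (T k).finite_toSet.image _)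
  have hle : F' ⊆ σ.compatible i := by
    rintro x ((hx | ⟨k, rfl⟩) | hx)
    · exact hFc hx
    · exact σ.gi_mem_compatible i k
    · obtain ⟨k, t, -, rfl⟩ := Set.mem_iUnion.mp hx
      exact hr k t
  refine ⟨Algebra.adjoin ℤ F', ⟨hF'.toFinset, by rw [hF'.coe_toFinset]⟩, Algebra.adjoin_le hle,
    fun k ↦ Algebra.subset_adjoin (Or.inl (Or.inr ⟨k, rfl⟩)), fun k x ↦ ?_,
    fun x hx ↦ Algebra.subset_adjoin (Or.inl (Or.inl hx))⟩
  let S : Subring Γ(σ.Wi i, ⊤) :=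
    (Algebra.adjoin ℤ F').toSubring.map (RingHom.snd R Γ(σ.Wi i, ⊤))
  let g := σ.gi i k
  have hg : g ∈ S := ⟨(σ.f k, g), Algebra.subset_adjoin (Or.inl (Or.inr ⟨k, rfl⟩)), rfl⟩
  let S' : Subring Γ(σ.Wi i, ⊤) :=
    { carrier := {x | ∃ n : ℕ, g ^ n * x ∈ S}
      zero_mem' := ⟨0, by simp⟩
      one_mem' := ⟨0, by simp⟩
      add_mem' := fun {a b} ⟨m, hm⟩ ⟨n, hn⟩ ↦ ⟨m + n, by
        rw [show g ^ (m + n) * (a + b) = g ^ n * (g ^ m * a) + g ^ m * (g ^ n * b) by ring]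
        exact add_mem (mul_mem (pow_mem hg n) hm) (mul_mem (pow_mem hg m) hn)⟩
      neg_mem' := fun {a} ⟨m, hm⟩ ↦ ⟨m, by rw [mul_neg]; exact neg_mem hm⟩
      mul_mem' := fun {a b} ⟨m, hm⟩ ⟨n, hn⟩ ↦ ⟨m + n, by
        rw [show g ^ (m + n) * (a * b) = (g ^ m * a) * (g ^ n * b) by ring]
        exact mul_mem hm hn⟩ }
  obtain ⟨n₁, n₂, a, ha, e₁⟩ := hT k S' ⟨0, by simpa using hg⟩
    (fun t ht ↦ ⟨m k t, (r k t, g ^ m k t * t),
      Algebra.subset_adjoin (Or.inr (Set.mem_iUnion.mpr ⟨k, t, ht, rfl⟩)), rfl⟩) x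
  exact ⟨n₂ + n₁, a, ha, by rw [pow_add, mul_assoc]; exact e₁⟩

instance : LE σ.Model :=
  ⟨fun M N ↦ ∃ h : M.i.1 ≤ N.i.1, ∀ x ∈ M.P, σ.push h x ∈ N.P⟩

instance : Preorder σ.Model where
  le_refl M := ⟨le_rfl, fun x hx ↦ by rwa [push_self]⟩
  le_trans M N O := fun ⟨h, hM⟩ ⟨h', hN⟩ ↦
    ⟨h.trans h', fun x hx ↦ σ.push_push h h' x ▸ hN _ (hM x hx)⟩

theorem exists_model_ge [IsOpenImmersion e] (i : σ.Above) (F : Set (σ.Amb i)) (hF : F.Finite)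
    (hFc : F ⊆ σ.compatible i) : ∃ M : σ.Model, ∃ h : M.i = i, ∀ x ∈ F, h ▸ x ∈ M.P := by
  obtain ⟨P, h₁, h₂, h₃, h₄, h₅⟩ := σ.exists_model i F hF hFc
  exact ⟨⟨i, P, h₁, h₂, h₃, h₄⟩, rfl, fun x hx ↦ h₅ hx⟩

theorem exists_upper [IsOpenImmersion e] (M N : σ.Model) (i : σ.Above) (h₁ : M.i.1 ≤ i.1)
    (h₂ : N.i.1 ≤ i.1) : ∃ O : σ.Model, M ≤ O ∧ N ≤ O ∧ O.i = i := by
  classical
  obtain ⟨G₁, hG₁⟩ := M.fg
  obtain ⟨G₂, hG₂⟩ := N.fg
  obtain ⟨P, p₁, p₂, p₃, p₄, p₅⟩ := σ.exists_model i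
    (σ.push h₁ '' G₁ ∪ σ.push h₂ '' G₂)
    ((G₁.finite_toSet.image _).union (G₂.finite_toSet.image _)) (by
      rintro x (⟨y, hy, rfl⟩ | ⟨y, hy, rfl⟩)
      · exact σ.push_mem_compatible h₁ (M.le (hG₁ ▸ Algebra.subset_adjoin hy))
      · exact σ.push_mem_compatible h₂ (N.le (hG₂ ▸ Algebra.subset_adjoin hy)))
  refine ⟨⟨i, P, p₁, p₂, p₃, p₄⟩, ⟨h₁, fun x hx ↦ ?_⟩, ⟨h₂, fun x hx ↦ ?_⟩, rfl⟩
  · rw [← hG₁] at hx
    exact (Algebra.adjoin_le (S := P.comap (σ.push h₁)) fun y hy ↦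
      p₅ (Or.inl ⟨y, hy, rfl⟩)) hx
  · rw [← hG₂] at hx
    exact (Algebra.adjoin_le (S := P.comap (σ.push h₂)) fun y hy ↦
      p₅ (Or.inr ⟨y, hy, rfl⟩)) hx

instance directed_model [IsOpenImmersion e] : IsDirectedOrder σ.Model :=
  ⟨fun M N ↦ by
    obtain ⟨i, h₁, h₂⟩ := exists_ge_ge M.i.1 N.i.1
    obtain ⟨O, hM, hN, -⟩ := σ.exists_upper M N ⟨i, M.i.2.trans h₁⟩ h₁ h₂
    exact ⟨O, hM, hN⟩⟩

instance nonempty_model [IsOpenImmersion e] : Nonempty σ.Model := by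
  obtain ⟨M, -, -⟩ := σ.exists_model_ge σ.base ∅ Set.finite_empty (Set.empty_subset _)
  exact ⟨M⟩

theorem exists_model_mem [IsOpenImmersion e] (r : R) :
    ∃ (M : σ.Model) (x : σ.Amb M.i), x ∈ M.P ∧ x.1 = r := by
  obtain ⟨i, s, hs⟩ := σ.exists_θ_eq (σ.ρ r)
  obtain ⟨P, p₁, p₂, p₃, p₄, p₅⟩ := σ.exists_model i {((r, s) : σ.Amb i)} (Set.finite_singleton _)
    (by rintro x rfl; exact σ.mem_compatible.mpr hs.symm)
  exact ⟨⟨i, P, p₁, p₂, p₃, p₄⟩, (r, s), p₅ rfl, rfl⟩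

theorem exists_model_eq [IsOpenImmersion e] (M : σ.Model) (x y : σ.Amb M.i) (hx : x ∈ M.P)
    (hy : y ∈ M.P) (h : x.1 = y.1) :
    ∃ (N : σ.Model) (hMN : M ≤ N), σ.push hMN.choose x = σ.push hMN.choose y := by
  have h0 : σ.θ M.i (x.2 - y.2) = 0 := by
    rw [map_sub, ← σ.mem_compatible.mp (M.le hx), ← σ.mem_compatible.mp (M.le hy), sub_eq_zero]
    exact congrArg _ h
  obtain ⟨j, hj, hjz⟩ := σ.exists_τ_eq_zero M.i _ h0
  obtain ⟨O, hO, -, rfl⟩ := σ.exists_upper M M j hj hj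
  refine ⟨O, hO, Prod.ext ?_ ?_⟩
  · rw [push_fst, push_fst, h]
  rw [push_snd, push_snd]
  rw [← sub_eq_zero, ← map_sub]
  exact hjz

end Setup

end

end NoethApproxLib
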