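import Mathlib

/-!
# Maps to affine schemes which are open immersions
-/

set_option autoImplicit false

universe u

open CategoryTheory CategoryTheory.Limits AlgebraicGeometry

namespace NoethApproxLib

/-- A ring map which is an isomorphism after inverting an element. -/
theorem isIso_morphismRestrict_SpecMap {P A : CommRingCat.{u}} (φ : P ⟶ A) (p : P)
    (hinj : ∀ a : P, φ a = 0 → ∃ n : ℕ, p ^ n * a = 0)
    (hsurj : ∀ x : A, ∃ (n : ℕ) (a : P), φ a = φ p ^ n * x) :
    IsIso (Spec.map φ ∣_ PrimeSpectrum.basicOpen p) := by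
  have hp : IsAffineOpen (X := Spec P) (PrimeSpectrum.basicOpen p) := by
    rw [← basicOpen_eq_of_affine]
    exact (isAffineOpen_top _).basicOpen _
  rw [isIso_morphismRestrict_iff_isIso_app (Spec.map φ) hp, ConcreteCategory.isIso_iff_bijective]
  let U : (Spec P).Opens := PrimeSpectrum.basicOpen p
  let V : (Spec A).Opens := PrimeSpectrum.basicOpen (φ p)
  let Ψ : Γ(Spec P, U) →+* Γ(Spec A, V) := ((Spec.map φ).app U).hom
  letI : Algebra P Γ(Spec P, U) := StructureSheaf.openAlgebra P (Opposite.op (PrimeSpectrum.basicOpen p))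
  letI : Algebra A Γ(Spec A, V) :=
    StructureSheaf.openAlgebra A (Opposite.op (PrimeSpectrum.basicOpen (φ p)))
  haveI : IsLocalization.Away p Γ(Spec P, U) := StructureSheaf.IsLocalization.to_basicOpen P p
  haveI : IsLocalization.Away (φ p) Γ(Spec A, V) :=
    StructureSheaf.IsLocalization.to_basicOpen A (φ p)
  let i : P →+* Γ(Spec P, U) := algebraMap P Γ(Spec P, U)
  let j : A →+* Γ(Spec A, V) := algebraMap A Γ(Spec A, V)
  have hsq : ∀ a, Ψ (i a) = j (φ a) := fun a ↦ by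
    have h : (Scheme.ΓSpecIso P).inv ≫ (Spec P).presheaf.map (homOfLE (le_top : U ≤ ⊤)).op ≫
        (Spec.map φ).app U = φ ≫ (Scheme.ΓSpecIso A).inv ≫
        (Spec A).presheaf.map (homOfLE (le_top : V ≤ ⊤)).op := by
      rw [(Spec.map φ).naturality, ← Category.assoc φ, Scheme.ΓSpecIso_inv_naturality,
        Category.assoc]
      rfl
    exact congrArg (fun m : P ⟶ Γ(Spec A, V) ↦ m a) h
  show Function.Bijective Ψ
  refine ⟨(injective_iff_map_eq_zero Ψ).mpr fun z hz ↦ ?_, fun z ↦ ?_⟩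
  · obtain ⟨⟨a, ⟨_, k, rfl⟩⟩, e⟩ := IsLocalization.surj (Submonoid.powers p) z
    have e' : z * i (p ^ k) = i a := e
    have h1 : j (φ a) = 0 := by rw [← hsq, ← e', map_mul, hz, zero_mul]
    obtain ⟨⟨_, m, rfl⟩, hm⟩ :=
      (IsLocalization.map_eq_zero_iff (Submonoid.powers (φ p)) Γ(Spec A, V) (φ a)).mp h1
    obtain ⟨n, hn⟩ := hinj (p ^ m * a) (by rw [map_mul, map_pow]; exact hm)
    have h2 : i a = 0 :=
      (IsLocalization.map_eq_zero_iff (Submonoid.powers p) Γ(Spec P, U) a).mpr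
        ⟨⟨p ^ (n + m), Submonoid.pow_mem _ (Submonoid.mem_powers p) _⟩, by
          show p ^ (n + m) * a = 0
          rw [pow_add, mul_assoc]; exact hn⟩
    rw [h2] at e'
    exact (IsLocalization.map_units Γ(Spec P, U) (⟨p ^ k, k, rfl⟩ : Submonoid.powers p)).mul_left_eq_zero.mp e'
  · obtain ⟨⟨x, ⟨_, k, rfl⟩⟩, e⟩ := IsLocalization.surj (Submonoid.powers (φ p)) z
    obtain ⟨n, a, ha⟩ := hsurj x
    refine ⟨IsLocalization.mk' _ a (⟨p ^ (n + k), n + k, rfl⟩ : Submonoid.powers p), ?_⟩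
    have h1 : IsUnit (j (φ p ^ (n + k))) :=
      IsLocalization.map_units Γ(Spec A, V) (⟨φ p ^ (n + k), n + k, rfl⟩ : Submonoid.powers (φ p))
    refine h1.mul_left_injective ?_
    have h2 : Ψ (IsLocalization.mk' Γ(Spec P, U) a (⟨p ^ (n + k), n + k, rfl⟩ : Submonoid.powers p)) *
        Ψ (i (p ^ (n + k))) = Ψ (i a) := by
      rw [← map_mul]
      exact congrArg Ψ (IsLocalization.mk'_spec _ a _)
    have e' : z * j (φ p ^ k) = j x := e
    rw [hsq, map_pow, hsq, ha] at h2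
    show _ * j (φ p ^ (n + k)) = z * j (φ p ^ (n + k))
    rw [h2, pow_add, map_mul j, map_mul j, ← e']
    ring

/-- Affine basic opens are visible in the affine hull. -/
theorem range_toSpecΓ_superset {W : Scheme.{u}} [CompactSpace W] [QuasiSeparatedSpace W]
    (g : Γ(W, ⊤)) (hg : IsAffineOpen (W.basicOpen g)) :
    (PrimeSpectrum.basicOpen g : Set (PrimeSpectrum Γ(W, ⊤))) ⊆ Set.range W.toSpecΓ := by
  intro z hz
  haveI := isLocalization_basicOpen_of_qcqs isCompact_univ isQuasiSeparated_univ g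
  rw [← PrimeSpectrum.localization_away_comap_range Γ(W, W.basicOpen g) g] at hz
  obtain ⟨w, rfl⟩ := hz
  obtain ⟨y, hy⟩ := hg.isoSpec.hom.surjective w
  refine ⟨(W.basicOpen g).ι y, ?_⟩
  rw [← Scheme.Hom.comp_apply, ← Scheme.Opens.toSpecΓ_SpecMap_presheaf_map_top,
    Scheme.Hom.comp_apply]
  exact congrArg _ hy

/-- A map to an affine scheme is an open immersion as soon as it factors through a quasi-affine
scheme and becomes an isomorphism on the members of a covering by basic opens. -/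
theorem isOpenImmersion_toSpecΓ_comp {W : Scheme.{u}} [CompactSpace W] {P : CommRingCat.{u}}
    (φ : P ⟶ Γ(W, ⊤)) {K : Type u} (p : K → P) (haff : ∀ k, IsAffineOpen (W.basicOpen (φ (p k))))
    (hcov : ⨆ k, W.basicOpen (φ (p k)) = ⊤)
    (hinj : ∀ k (a : P), φ a = 0 → ∃ n : ℕ, p k ^ n * a = 0)
    (hsurj : ∀ k (x : Γ(W, ⊤)), ∃ (n : ℕ) (a : P), φ a = φ (p k) ^ n * x) :
    IsOpenImmersion (W.toSpecΓ ≫ Spec.map φ) ∧
      Set.range (W.toSpecΓ ≫ Spec.map φ) = ⋃ k, (PrimeSpectrum.basicOpen (p k) : Set (PrimeSpectrum P)) := by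
  let D : K → (Spec P).Opens := fun k ↦ PrimeSpectrum.basicOpen (p k)
  have hpre : ∀ k, (W.toSpecΓ ≫ Spec.map φ) ⁻¹ᵁ D k = W.basicOpen (φ (p k)) := fun k ↦ by
    rw [Scheme.Hom.comp_preimage]
    exact Scheme.toSpecΓ_preimage_basicOpen W (φ (p k))
  have : W.IsQuasiAffine := .of_forall_exists_mem_basicOpen _ fun x ↦ by
    obtain ⟨k, hk⟩ := TopologicalSpace.Opens.mem_iSup.mp (hcov.ge (trivial : x ∈ (⊤ : W.Opens)))
    exact ⟨φ (p k), haff k, hk⟩
  have hrange : Set.range (W.toSpecΓ ≫ Spec.map φ) ⊆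
      ⋃ k, (PrimeSpectrum.basicOpen (p k) : Set (PrimeSpectrum P)) := by
    rintro _ ⟨x, rfl⟩
    obtain ⟨k, hk⟩ := TopologicalSpace.Opens.mem_iSup.mp (hcov.ge (trivial : x ∈ (⊤ : W.Opens)))
    exact Set.mem_iUnion.mpr ⟨k, (hpre k).ge hk⟩
  have hres : ∀ k, IsIso (Spec.map φ ∣_ D k) := fun k ↦
    isIso_morphismRestrict_SpecMap φ (p k) (hinj k) (hsurj k)
  have hopen : IsOpenImmersion (W.toSpecΓ ≫ Spec.map φ) := by
    refine IsZariskiLocalAtTarget.of_range_subset_iSup (P := @IsOpenImmersion)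
      D (hrange.trans (TopologicalSpace.Opens.coe_iSup D).ge) fun k ↦ ?_
    rw [morphismRestrict_comp]
    haveI := hres k
    exact MorphismProperty.comp_mem _ _ _ (inferInstanceAs (IsOpenImmersion (W.toSpecΓ ∣_ _)))
      (inferInstanceAs (IsOpenImmersion (Spec.map φ ∣_ D k)))
  refine ⟨hopen, hrange.antisymm (Set.iUnion_subset fun k y hy ↦ ?_)⟩
  haveI := hres k
  have : QuasiSeparatedSpace W := inferInstance
  obtain ⟨z, hz⟩ := (Spec.map φ ∣_ D k).surjective ⟨y, hy⟩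
  obtain ⟨x, hx⟩ := range_toSpecΓ_superset (φ (p k)) (haff k) (a := z.1) z.2
  refine ⟨x, ?_⟩
  rw [Scheme.Hom.comp_apply, hx]
  exact (morphismRestrict_base_coe (Spec.map φ) (D k) z).symm.trans (congrArg Subtype.val hz)

end NoethApproxLib
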