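import Groth.Agent.NoethApproxLib.Mor
import Groth.Agent.NoethApproxLib.Closed
import Groth.Agent.NoethApproxLib.Stage2076

/-!
# Relative Noetherian approximation
-/

set_option autoImplicit false

universe u

open CategoryTheory CategoryTheory.Limits AlgebraicGeometry Opposite

namespace NoethApproxLib

noncomputable section

variable {X S : Scheme.{u}} {A : Approx X} {B : Approx S} {f : X ⟶ S}

abbrev relAt (φ : StageHom A B f) : Scheme.{u} := pullback φ.hom (B.proj φ.j)

abbrev relHom (φ : StageHom A B f) : relAt φ ⟶ S := pullback.snd _ _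

theorem stageHom_props (φ : StageHom A B f) :
    LocallyOfFinitePresentation φ.hom ∧ QuasiCompact φ.hom ∧ QuasiSeparated φ.hom := by
  haveI := A.isLocallyNoetherian (op φ.i)
  haveI := B.isLocallyNoetherian (op φ.j)
  haveI : LocallyOfFiniteType (φ.hom ≫ specULiftZIsTerminal.from (B.obj φ.j)) := by
    rw [specULiftZIsTerminal.comp_from]
    exact A.lft _
  haveI : LocallyOfFiniteType φ.hom :=
    locallyOfFiniteType_of_comp φ.hom (specULiftZIsTerminal.from (B.obj φ.j))
  exact ⟨LocallyOfFinitePresentation.iff_locallyOfFiniteType.mpr ‹_›,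
    quasiCompact_of_compactSpace φ.hom,
    QuasiSeparated.of_comp φ.hom (specULiftZIsTerminal.from (B.obj φ.j))⟩

set_option backward.isDefEq.respectTransparency false in
theorem relHom_props (φ : StageHom A B f) :
    LocallyOfFinitePresentation (relHom φ) ∧ QuasiCompact (relHom φ) ∧
      QuasiSeparated (relHom φ) :=
  ⟨MorphismProperty.pullback_snd _ _ (stageHom_props φ).1,
    MorphismProperty.pullback_snd _ _ (stageHom_props φ).2.1,
    MorphismProperty.pullback_snd _ _ (stageHom_props φ).2.2⟩

set_option backward.isDefEq.respectTransparency false in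
theorem isAffineHom_fst (φ : StageHom A B f) : IsAffineHom (pullback.fst φ.hom (B.proj φ.j)) :=
  MorphismProperty.pullback_fst _ _ (B.isAffineHom_proj φ.j)

theorem compactSpace_relAt (φ : StageHom A B f) : CompactSpace (relAt φ) :=
  haveI := isAffineHom_fst φ
  haveI : CompactSpace (A.obj φ.i) := A.compact _
  QuasiCompact.compactSpace_of_compactSpace (pullback.fst φ.hom (B.proj φ.j))

theorem quasiSeparatedSpace_relAt (φ : StageHom A B f) : QuasiSeparatedSpace (relAt φ) :=
  haveI := isAffineHom_fst φ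
  quasiSeparatedSpace_of_quasiSeparated (pullback.fst φ.hom (B.proj φ.j))

def relMap {φ ψ : StageHom A B f} (h : φ ≤ ψ) : relAt ψ ⟶ relAt φ :=
  pullback.lift (pullback.fst _ _ ≫ A.map h.choose) (pullback.snd _ _) (by
    rw [Category.assoc, ← h.choose_spec.choose_spec, pullback.condition_assoc, B.proj_map])

theorem relMap_fst {φ ψ : StageHom A B f} (h : φ ≤ ψ) :
    relMap h ≫ pullback.fst φ.hom (B.proj φ.j) = pullback.fst _ _ ≫ A.map h.choose :=
  pullback.lift_fst _ _ _

theorem relMap_snd {φ ψ : StageHom A B f} (h : φ ≤ ψ) : relMap h ≫ relHom φ = relHom ψ :=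
  pullback.lift_snd _ _ _

theorem isAffineHom_relMap {φ ψ : StageHom A B f} (h : φ ≤ ψ) : IsAffineHom (relMap h) := by
  haveI := isAffineHom_fst φ
  haveI := isAffineHom_fst ψ
  haveI : IsAffineHom (A.map h.choose) := A.affine _
  haveI : IsAffineHom (relMap h ≫ pullback.fst φ.hom (B.proj φ.j)) := by
    rw [relMap_fst]; infer_instance
  exact IsAffineHom.of_comp _ (pullback.fst φ.hom (B.proj φ.j))

variable (A B f)

/-- The inverse system of models of finite presentation over the base. -/
def relDiag : (StageHom A B f)ᵒᵖ ⥤ Over S where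
  obj φ := Over.mk (relHom φ.unop)
  map a := Over.homMk (relMap (leOfHom a.unop)) (relMap_snd _)
  map_id φ := Over.OverMorphism.ext (pullback.hom_ext
    ((relMap_fst (le_refl φ.unop)).trans (by
      show _ ≫ A.map _ = 𝟙 _ ≫ _
      rw [Approx.map_self, Category.comp_id, Category.id_comp]))
    ((relMap_snd (le_refl φ.unop)).trans (Category.id_comp _).symm))
  map_comp {φ ψ χ} a b := Over.OverMorphism.ext (pullback.hom_ext
    ((relMap_fst ((leOfHom b.unop).trans (leOfHom a.unop))).trans (by
      show _ = (relMap (leOfHom a.unop) ≫ relMap (leOfHom b.unop)) ≫ pullback.fst _ _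
      rw [Category.assoc, relMap_fst, ← Category.assoc, relMap_fst, Category.assoc, A.map_map]))
    ((relMap_snd ((leOfHom b.unop).trans (leOfHom a.unop))).trans (by
      show _ = (relMap (leOfHom a.unop) ≫ relMap (leOfHom b.unop)) ≫ pullback.snd _ _
      exact ((Category.assoc _ _ _).trans ((congrArg _ (relMap_snd _)).trans (relMap_snd _))).symm)))

def toRelAt (φ : StageHom A B f) : X ⟶ relAt φ := pullback.lift (A.proj φ.i) f φ.fac

/-- The cone with vertex `X`. -/
def relCone : Cone (relDiag A B f) where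
  pt := Over.mk f
  π :=
    { app := fun φ ↦ Over.homMk (toRelAt A B f φ.unop) (pullback.lift_snd _ _ _)
      naturality := fun φ ψ a ↦ Over.OverMorphism.ext (pullback.hom_ext
        (by
          show (𝟙 X ≫ toRelAt A B f ψ.unop) ≫ _ =
            (toRelAt A B f φ.unop ≫ relMap (leOfHom a.unop)) ≫ pullback.fst _ _
          rw [Category.id_comp, Category.assoc, relMap_fst, ← Category.assoc, toRelAt, toRelAt,
            pullback.lift_fst, pullback.lift_fst, A.proj_map])
        (by
          show (𝟙 X ≫ toRelAt A B f ψ.unop) ≫ _ =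
            (toRelAt A B f φ.unop ≫ relMap (leOfHom a.unop)) ≫ relHom ψ.unop
          rw [Category.id_comp, Category.assoc, relMap_snd]
          exact (pullback.lift_snd _ _ _).trans (pullback.lift_snd _ _ _).symm)) }

theorem nonempty_isLimit_relCone : Nonempty (IsLimit (relCone A B f)) := by
  let A' := A.reindex (StageHom.src A B f) (StageHom.src_cofinal A B f)
  let B' := B.reindex (StageHom.tgt A B f) (StageHom.tgt_cofinal A B f)
  have key : ∀ (T : Scheme.{u}) (m : T ⟶ S) (t : ∀ φ, T ⟶ relAt (A := A) (B := B) (f := f) φ),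
      (∀ φ, t φ ≫ relHom φ = m) →
      (∀ φ ψ (h : φ ≤ ψ), t ψ ≫ relMap h = t φ) →
      ∃! l : T ⟶ X, l ≫ f = m ∧ ∀ φ, l ≫ toRelAt A B f φ = t φ := by
    intro T m t ht hn
    let a : Cone A'.D :=
      { pt := T
        π :=
          { app := fun φ ↦ t φ.unop ≫ pullback.fst _ _
            naturality := fun (φ ψ : (StageHom A B f)ᵒᵖ) (g : φ ⟶ ψ) ↦ by
              refine (Category.id_comp _).trans ?_
              show t ψ.unop ≫ pullback.fst _ _ =
                (t φ.unop ≫ pullback.fst _ _) ≫ A.map (leOfHom g.unop).choose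
              rw [Category.assoc, ← relMap_fst (leOfHom g.unop), ← Category.assoc,
                hn _ _ (leOfHom g.unop)] } }
    let l : T ⟶ X := A'.isLimit.lift a
    have hl : ∀ φ : StageHom A B f, l ≫ A.proj φ.i = t φ ≫ pullback.fst _ _ := fun φ ↦
      A'.isLimit.fac a (op φ)
    have hlf : l ≫ f = m := B'.isLimit.hom_ext fun (φ : (StageHom A B f)ᵒᵖ) ↦ by
      show (l ≫ f) ≫ B.proj φ.unop.j = m ≫ B.proj φ.unop.j
      rw [Category.assoc, ← φ.unop.fac, ← Category.assoc, hl, Category.assoc, pullback.condition,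
        ← Category.assoc]
      exact congrArg (· ≫ B.proj φ.unop.j) (ht _)
    refine ⟨l, ⟨hlf, fun φ ↦ pullback.hom_ext ?_ ?_⟩, fun l' hl' ↦ A'.isLimit.hom_ext fun (φ : (StageHom A B f)ᵒᵖ) ↦ ?_⟩
    · rw [Category.assoc, toRelAt, pullback.lift_fst, hl]
    · rw [Category.assoc, toRelAt, pullback.lift_snd, hlf]
      exact (ht φ).symm
    · show l' ≫ A.proj φ.unop.i = l ≫ A.proj φ.unop.i
      rw [hl, ← hl'.2 φ.unop, Category.assoc, toRelAt, pullback.lift_fst]
  choose l hl hlu using fun s : Cone (relDiag A B f) ↦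
    key s.pt.left s.pt.hom (fun φ ↦ (s.π.app (op φ)).left) (fun φ ↦ Over.w (s.π.app (op φ)))
      (fun φ ψ h ↦ congrArg Over.Hom.left (s.w (homOfLE h).op))
  exact ⟨{
    lift := fun s ↦ Over.homMk (l s) (hl s).1
    fac := fun s φ ↦ Over.OverMorphism.ext ((hl s).2 φ.unop)
    uniq := fun s m hm ↦ Over.OverMorphism.ext
      (hlu s m.left ⟨Over.w m, fun φ ↦ congrArg Over.Hom.left (hm (op φ))⟩) }⟩

variable {A B}

/-- A morphism locally of finite type embeds into a model as a closed subscheme. -/
theorem exists_isClosedImmersion_toRelAt [LocallyOfFiniteType f] :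
    ∃ φ : StageHom A B f, IsClosedImmersion (toRelAt A B f φ) := by
  haveI : IsConnected (StageHom A B f)ᵒᵖ := IsCofiltered.isConnected _
  let D := relDiag A B f ⋙ Over.forget S
  let c := (Over.forget S).mapCone (relCone A B f)
  have hc : IsLimit c :=
    isLimitOfPreserves (Over.forget S) (nonempty_isLimit_relCone A B f).some
  haveI : ∀ {i j : (StageHom A B f)ᵒᵖ} (a : i ⟶ j), IsAffineHom (D.map a) := fun {i j} a ↦
    isAffineHom_relMap (leOfHom a.unop)
  haveI : ∀ i, CompactSpace (D.obj i) := fun i ↦ compactSpace_relAt i.unop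
  haveI : IsClosedImmersion (show X ⟶ c.pt from 𝟙 X) :=
    inferInstanceAs (IsClosedImmersion (𝟙 X))
  obtain ⟨φ, hφ⟩ := exists_isClosedImmersion_comp D (fun φ ↦ relHom φ.unop)
    (fun a ↦ relMap_snd (leOfHom a.unop)) c hc (show X ⟶ c.pt from 𝟙 X) (fun φ ↦ by
      show LocallyOfFiniteType (𝟙 X ≫ toRelAt A B f φ.unop ≫ relHom φ.unop)
      rw [Category.id_comp, toRelAt, relHom, pullback.lift_snd]
      infer_instance)
  refine ⟨φ.unop, ?_⟩
  have h : IsClosedImmersion (𝟙 X ≫ toRelAt A B f φ.unop) := hφ φ (𝟙 φ)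
  rwa [Category.id_comp] at h

/-- A quasi-compact open of the base through which a morphism factors. -/
theorem exists_open_factor (f : X ⟶ S) [CompactSpace X] :
    ∃ S₀ : S.Opens, IsCompact (S₀ : Set S) ∧ ∃ f₀ : X ⟶ S₀, f₀ ≫ S₀.ι = f := by
  have hb := S.isBasis_affineOpens
  have hc : IsCompact (Set.range f) := isCompact_range f.continuous
  obtain ⟨t, ht⟩ := hc.elim_finite_subcover (fun U : S.affineOpens ↦ (U.1 : Set S))
    (fun U ↦ U.1.isOpen) fun x _ ↦ by
      obtain ⟨U, hU, hxU, -⟩ := exists_isAffineOpen_mem_and_subset (X := S) (x := x) (U := ⊤) trivial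
      exact Set.mem_iUnion.mpr ⟨⟨U, hU⟩, hxU⟩
  let O : S.Opens := ⟨⋃ U ∈ t, (U.1 : Set S), isOpen_biUnion fun U _ ↦ U.1.isOpen⟩
  exact ⟨O, t.finite_toSet.isCompact_biUnion fun U _ ↦ U.2.isCompact,
    IsOpenImmersion.lift O.ι f (by rw [Scheme.Opens.range_ι]; exact ht),
    IsOpenImmersion.lift_fac _ _ _⟩

end

end NoethApproxLib
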