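import Groth.Agent.NoethApproxLib.Basic

/-!
# Descending an open piece of an affine scheme to a stage
-/

set_option autoImplicit false

universe u

open CategoryTheory CategoryTheory.Limits AlgebraicGeometry Opposite TopologicalSpace

namespace NoethApproxLib

noncomputable section

variable {V : Scheme.{u}} (A : Approx V)

/-- An open subscheme `W` of `V` with an open immersion into an affine scheme, descended to a
stage of an approximation of `V`. -/
structure Setup (R : CommRingCat.{u}) (W : V.Opens) (e : (W : Scheme.{u}) ⟶ Spec R) where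
  i₀ : A.J
  W₀ : (A.obj i₀).Opens
  isCompact : IsCompact (W₀ : Set (A.obj i₀))
  preimage_eq : A.proj i₀ ⁻¹ᵁ W₀ = W
  K : Type u
  [finite : Finite K]
  f : K → R
  g : K → Γ(W₀, ⊤)
  compat : ∀ k, ((A.proj i₀).resLE W₀ W preimage_eq.ge).appTop (g k) =
    e.appTop ((Scheme.ΓSpecIso R).inv (f k))
  isAffineOpen : ∀ k, IsAffineOpen ((W₀ : Scheme.{u}).basicOpen (g k))
  iSup_eq : ⨆ k, (W₀ : Scheme.{u}).basicOpen (g k) = ⊤
  range_eq : Set.range e = ⋃ k, (PrimeSpectrum.basicOpen (f k) : Set (PrimeSpectrum R))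

attribute [instance] Setup.finite

/-- Finitely many basic opens making up a quasi-compact open immersion. -/
theorem exists_range_eq_iUnion_basicOpen {R : CommRingCat.{u}} {W : Scheme.{u}} [CompactSpace W]
    (e : W ⟶ Spec R) [IsOpenImmersion e] :
    ∃ (K : Type u) (_ : Finite K) (f : K → R),
      Set.range e = ⋃ k, (PrimeSpectrum.basicOpen (f k) : Set (PrimeSpectrum R)) := by
  have hopen : IsOpen (Set.range e) := e.isOpenEmbedding.isOpen_range
  have hc : IsCompact (Set.range e) := isCompact_range e.continuous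
  let O : TopologicalSpace.Opens (PrimeSpectrum R) := ⟨Set.range e, hopen⟩
  have key : ∀ y ∈ (O : Set (PrimeSpectrum R)), ∃ r : R, y ∈ PrimeSpectrum.basicOpen r ∧
      (PrimeSpectrum.basicOpen r : Set (PrimeSpectrum R)) ⊆ O := fun y hy ↦ by
    obtain ⟨_, ⟨_, ⟨r, rfl⟩, rfl⟩, h1, h2⟩ :=
      PrimeSpectrum.isBasis_basic_opens.exists_subset_of_mem_open hy O.isOpen
    exact ⟨r, h1, h2⟩
  choose r hr hrO using fun y : (O : Set (PrimeSpectrum R)) ↦ key y y.2
  obtain ⟨t, ht⟩ := hc.elim_finite_subcover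
    (fun y : (O : Set (PrimeSpectrum R)) ↦ (PrimeSpectrum.basicOpen (r y) : Set (PrimeSpectrum R)))
    (fun y ↦ (PrimeSpectrum.basicOpen (r y)).isOpen)
    (fun y hy ↦ Set.mem_iUnion.mpr ⟨⟨y, hy⟩, hr _⟩)
  refine ⟨{y // y ∈ t}, inferInstance, fun y ↦ r y.1, (ht.trans ?_).antisymm ?_⟩
  · exact Set.iUnion₂_subset fun y hy ↦ Set.subset_iUnion_of_subset ⟨y, hy⟩ subset_rfl
  · exact Set.iUnion_subset fun y ↦ hrO y.1

theorem preimage_basicOpen_SpecMap {R : CommRingCat.{u}} {W : Scheme.{u}} (e : W ⟶ Spec R) (r : R) :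
    e ⁻¹ᵁ (PrimeSpectrum.basicOpen r : (Spec R).Opens) =
      W.basicOpen (e.appTop ((Scheme.ΓSpecIso R).inv r)) := by
  rw [← Scheme.preimage_basicOpen_top, basicOpen_eq_of_affine]

theorem exists_setup {R : CommRingCat.{u}} (W : V.Opens) (hW : IsCompact (W : Set V))
    (e : (W : Scheme.{u}) ⟶ Spec R) [IsOpenImmersion e] : Nonempty (Setup A R W e) := by
  classical
  haveI : CompactSpace (W : Scheme.{u}) := isCompact_iff_compactSpace.mp hW
  obtain ⟨K, hK, f, hf⟩ := exists_range_eq_iUnion_basicOpen e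
  obtain ⟨k₀, W₀, hW₀, hpre⟩ := exists_preimage_eq A.D A.cone A.isLimit W hW
  obtain ⟨i₀⟩ := k₀
  change A.proj i₀ ⁻¹ᵁ W₀ = W at hpre
  subst hpre
  let OD := opensDiagram A.D (op i₀) W₀
  let OC := opensCone A.D A.cone (op i₀) W₀
  let hOC : IsLimit OC := isLimitOpensCone A.D A.cone A.isLimit (op i₀) W₀
  haveI hcmp : ∀ j, CompactSpace (OD.obj j) := fun j ↦
    isCompact_iff_compactSpace.mp
      (QuasiCompact.isCompact_preimage (f := A.D.map j.hom) _ W₀.2 hW₀)
  haveI hqs : ∀ j, QuasiSeparatedSpace (OD.obj j) := fun j ↦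
    (isQuasiSeparated_iff_quasiSeparatedSpace _ (A.D.map j.hom ⁻¹ᵁ W₀).2).mp
      (.of_quasiSeparatedSpace _)
  -- the functions descend
  choose j₁ g₁ hg₁ using fun k ↦
    exists_appTop_π_eq_of_isLimit OD OC hOC (e.appTop ((Scheme.ΓSpecIso R).inv (f k)))
  -- a common stage with affine basic opens
  have haff : ∀ k, ∃ (j : Over (op i₀)) (a : j ⟶ j₁ k),
      IsAffineOpen ((OD.obj j).basicOpen ((OD.map a).appTop (g₁ k))) := by
    intro k
    have hD : IsAffineOpen (OC.π.app (j₁ k) ⁻¹ᵁ (OD.obj (j₁ k)).basicOpen (g₁ k)) := by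
      rw [Scheme.preimage_basicOpen_top, ← hg₁ k]
      show IsAffineOpen ((A.proj i₀ ⁻¹ᵁ W₀ : Scheme.{u}).basicOpen
        (e.appTop ((Scheme.ΓSpecIso R).inv (f k))))
      rw [← preimage_basicOpen_SpecMap]
      refine IsAffineOpen.preimage_of_isOpenImmersion ?_ e ?_
      · rw [← basicOpen_eq_of_affine]
        exact (isAffineOpen_top _).basicOpen _
      · exact (Set.subset_iUnion _ k).trans hf.ge
    obtain ⟨l, O, hO, hOpre⟩ := exists_isAffineOpen_preimage_eq OD OC hOC _ hD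
    obtain ⟨m, a, b, -⟩ := IsCofilteredOrEmpty.cone_objs (j₁ k) l
    obtain ⟨n, c, hc⟩ := exists_map_preimage_eq_map_preimage OD OC hOC
      (U := OD.map a ⁻¹ᵁ (OD.obj (j₁ k)).basicOpen (g₁ k)) (V := OD.map b ⁻¹ᵁ O)
      (QuasiCompact.isCompact_preimage (f := OD.map a) _ ((OD.obj (j₁ k)).basicOpen (g₁ k)).2
        (by exact (isRetrocompact_basicOpen (g₁ k)).isCompact))
      (hO.preimage (OD.map b)).isCompact
      (by rw [← Scheme.Hom.comp_preimage, ← Scheme.Hom.comp_preimage, OC.w, OC.w, hOpre])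
    refine ⟨n, c ≫ a, ?_⟩
    rw [← Scheme.preimage_basicOpen_top, OD.map_comp, Scheme.Hom.comp_preimage, hc]
    exact (hO.preimage (OD.map b)).preimage (OD.map c)
  choose j₂ a₂ haff using haff
  letI := Fintype.ofFinite K
  obtain ⟨j₀⟩ : Nonempty (Over (op i₀)) := ⟨Over.mk (𝟙 _)⟩
  obtain ⟨j₃, hj₃⟩ := IsCofiltered.inf_objs_exists (insert j₀ (Finset.univ.image j₂))
  let a₃ : ∀ k, j₃ ⟶ j₂ k := fun k ↦ (@hj₃ (j₂ k) (by simp)).some
  let g₃ : ∀ k, Γ(OD.obj j₃, ⊤) := fun k ↦ (OD.map (a₃ k ≫ a₂ k)).appTop (g₁ k)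
  have haff₃ : ∀ k, IsAffineOpen ((OD.obj j₃).basicOpen (g₃ k)) := fun k ↦ by
    show IsAffineOpen ((OD.obj j₃).basicOpen _)
    rw [show g₃ k = (OD.map (a₃ k)).appTop ((OD.map (a₂ k)).appTop (g₁ k)) by
      show (OD.map (a₃ k ≫ a₂ k)).appTop (g₁ k) = _
      rw [OD.map_comp, Scheme.Hom.comp_appTop]; rfl, ← Scheme.preimage_basicOpen_top]
    exact (haff k).preimage (OD.map (a₃ k))
  have hπg : ∀ k, (OC.π.app j₃).appTop (g₃ k) = e.appTop ((Scheme.ΓSpecIso R).inv (f k)) := fun k ↦ by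
    rw [hg₁ k]
    show _ = (OC.π.app (j₁ k)).appTop (g₁ k)
    rw [← OC.w (a₃ k ≫ a₂ k), Scheme.Hom.comp_appTop]
    rfl
  obtain ⟨j₄, a₄, h₄⟩ := exists_map_eq_top OD OC hOC (⨆ k, (OD.obj j₃).basicOpen (g₃ k)) (by
    rw [Scheme.Hom.preimage_iSup]
    refine eq_top_iff.mpr fun x _ ↦ ?_
    obtain ⟨k, hk⟩ := Set.mem_iUnion.mp (hf.le (Set.mem_range_self x))
    refine TopologicalSpace.Opens.mem_iSup.mpr ⟨k, ?_⟩
    rw [Scheme.preimage_basicOpen_top, hπg]
    exact (preimage_basicOpen_SpecMap e (f k)).le hk)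
  refine ⟨{
    i₀ := j₄.left.unop
    W₀ := A.D.map j₄.hom ⁻¹ᵁ W₀
    isCompact := QuasiCompact.isCompact_preimage (f := A.D.map j₄.hom) _ W₀.2 hW₀
    preimage_eq := by
      show A.cone.π.app j₄.left ⁻¹ᵁ _ = _
      rw [← Scheme.Hom.comp_preimage, A.cone.w]
    K := K
    f := f
    g := fun k ↦ (OD.map a₄).appTop (g₃ k)
    compat := fun k ↦ ?_
    isAffineOpen := fun k ↦ ?_
    iSup_eq := ?_
    range_eq := hf }⟩
  · refine Eq.trans ?_ (hπg k)
    rw [← OC.w a₄, Scheme.Hom.comp_appTop]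
    rfl
  · show IsAffineOpen ((OD.obj j₄).basicOpen ((OD.map a₄).appTop (g₃ k)))
    rw [← Scheme.preimage_basicOpen_top]
    exact (haff₃ k).preimage (OD.map a₄)
  · refine Eq.trans ?_ h₄
    rw [Scheme.Hom.preimage_iSup]
    exact iSup_congr fun k ↦ (Scheme.preimage_basicOpen_top (OD.map a₄) (g₃ k)).symm

end

end NoethApproxLib
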