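import Groth.Agent.NoethApproxLib.Setup
import Groth.Agent.NoethApproxLib.OpenImm

/-!
# The pieces of a setup at the stages
-/

set_option autoImplicit false

universe u

open CategoryTheory CategoryTheory.Limits AlgebraicGeometry Opposite TopologicalSpace

namespace NoethApproxLib

noncomputable section

variable {V : Scheme.{u}} {A : Approx V} {R : CommRingCat.{u}} {W : V.Opens}
  {e : (W : Scheme.{u}) ⟶ Spec R}

namespace Setup

variable (σ : Setup A R W e)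

/-- The stages above the base stage of a setup. -/
abbrev Above : Type u := {i : A.J // σ.i₀ ≤ i}

/-- The open piece at a stage. -/
abbrev Wi (i : σ.Above) : (A.obj i.1).Opens := A.map i.2 ⁻¹ᵁ σ.W₀

theorem preimage_Wi {i j : σ.Above} (h : i.1 ≤ j.1) : A.map h ⁻¹ᵁ σ.Wi i = σ.Wi j := by
  rw [← Scheme.Hom.comp_preimage, A.map_map]

theorem proj_preimage_Wi (i : σ.Above) : A.proj i.1 ⁻¹ᵁ σ.Wi i = W := by
  rw [← Scheme.Hom.comp_preimage, A.proj_map, σ.preimage_eq]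

def wmap {i j : σ.Above} (h : i.1 ≤ j.1) : (σ.Wi j : Scheme.{u}) ⟶ (σ.Wi i : Scheme.{u}) :=
  (A.map h).resLE _ _ (σ.preimage_Wi h).ge

def wproj (i : σ.Above) : (W : Scheme.{u}) ⟶ (σ.Wi i : Scheme.{u}) :=
  (A.proj i.1).resLE _ _ (σ.proj_preimage_Wi i).ge

theorem wmap_ι {i j : σ.Above} (h : i.1 ≤ j.1) :
    σ.wmap h ≫ (σ.Wi i).ι = (σ.Wi j).ι ≫ A.map h := Scheme.Hom.resLE_comp_ι _ _

theorem wproj_ι (i : σ.Above) : σ.wproj i ≫ (σ.Wi i).ι = W.ι ≫ A.proj i.1 :=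
  Scheme.Hom.resLE_comp_ι _ _

@[reassoc]
theorem wproj_wmap {i j : σ.Above} (h : i.1 ≤ j.1) : σ.wproj j ≫ σ.wmap h = σ.wproj i := by
  rw [← cancel_mono (σ.Wi i).ι, Category.assoc, wmap_ι, ← Category.assoc, wproj_ι,
    Category.assoc, A.proj_map, wproj_ι]

@[reassoc]
theorem wmap_wmap {i j k : σ.Above} (h : i.1 ≤ j.1) (h' : j.1 ≤ k.1) :
    σ.wmap h' ≫ σ.wmap h = σ.wmap (h.trans h') := by
  rw [← cancel_mono (σ.Wi i).ι, Category.assoc, wmap_ι, ← Category.assoc, wmap_ι,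
    Category.assoc, A.map_map, wmap_ι]

theorem wmap_self (i : σ.Above) : σ.wmap (le_refl i.1) = 𝟙 _ := by
  rw [← cancel_mono (σ.Wi i).ι, wmap_ι, A.map_self, Category.comp_id, Category.id_comp]

instance compactSpace_Wi (i : σ.Above) : CompactSpace (σ.Wi i : Scheme.{u}) :=
  isCompact_iff_compactSpace.mp
    (QuasiCompact.isCompact_preimage (f := A.map i.2) _ σ.W₀.2 σ.isCompact)

instance quasiSeparatedSpace_Wi (i : σ.Above) : QuasiSeparatedSpace (σ.Wi i : Scheme.{u}) :=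
  (isQuasiSeparated_iff_quasiSeparatedSpace _ (σ.Wi i).2).mp (.of_quasiSeparatedSpace _)

/-- The base stage. -/
def base : σ.Above := ⟨σ.i₀, le_rfl⟩

def toW₀ (i : σ.Above) : (σ.Wi i : Scheme.{u}) ⟶ (σ.W₀ : Scheme.{u}) :=
  (A.map i.2).resLE _ _ le_rfl

theorem wproj_toW₀ (i : σ.Above) :
    σ.wproj i ≫ σ.toW₀ i = (A.proj σ.i₀).resLE σ.W₀ W σ.preimage_eq.ge := by
  rw [← cancel_mono σ.W₀.ι, Category.assoc, toW₀, Scheme.Hom.resLE_comp_ι, Scheme.Hom.resLE_comp_ι,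
    ← Category.assoc, wproj_ι, Category.assoc, A.proj_map]

theorem wmap_toW₀ {i j : σ.Above} (h : i.1 ≤ j.1) : σ.wmap h ≫ σ.toW₀ i = σ.toW₀ j := by
  rw [← cancel_mono σ.W₀.ι, Category.assoc, toW₀, toW₀, Scheme.Hom.resLE_comp_ι,
    Scheme.Hom.resLE_comp_ι, ← Category.assoc, wmap_ι, Category.assoc, A.map_map]

/-- The functions at a stage. -/
def gi (i : σ.Above) (k : σ.K) : Γ(σ.Wi i, ⊤) := (σ.toW₀ i).appTop (σ.g k)

theorem wmap_gi {i j : σ.Above} (h : i.1 ≤ j.1) (k : σ.K) :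
    (σ.wmap h).appTop (σ.gi i k) = σ.gi j k := by
  show ((σ.toW₀ i).appTop ≫ (σ.wmap h).appTop) (σ.g k) = (σ.toW₀ j).appTop (σ.g k)
  rw [← Scheme.Hom.comp_appTop, wmap_toW₀]

set_option backward.isDefEq.respectTransparency false in
theorem isAffineOpen_gi (i : σ.Above) (k : σ.K) :
    IsAffineOpen ((σ.Wi i : Scheme.{u}).basicOpen (σ.gi i k)) := by
  have : IsAffineHom (σ.toW₀ i) := by
    rw [toW₀, Scheme.Hom.resLE_eq_morphismRestrict]
    exact IsZariskiLocalAtTarget.restrict (A.affine _) σ.W₀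
  rw [gi, ← Scheme.preimage_basicOpen_top]
  exact (σ.isAffineOpen k).preimage _

theorem iSup_gi (i : σ.Above) : ⨆ k, (σ.Wi i : Scheme.{u}).basicOpen (σ.gi i k) = ⊤ := by
  have h := congrArg (σ.toW₀ i ⁻¹ᵁ ·) σ.iSup_eq
  simp only [Scheme.Hom.preimage_iSup, Scheme.preimage_basicOpen_top] at h
  exact h.trans rfl

/-- The restriction to the open piece. -/
def ρ (_σ : Setup A R W e) : R →+* Γ(W, ⊤) := e.appTop.hom.comp (Scheme.ΓSpecIso R).inv.hom

/-- The comparison from a stage to the limit piece. -/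
def θ (i : σ.Above) : Γ(σ.Wi i, ⊤) →+* Γ(W, ⊤) := (σ.wproj i).appTop.hom

/-- The transition maps on functions. -/
def τ {i j : σ.Above} (h : i.1 ≤ j.1) : Γ(σ.Wi i, ⊤) →+* Γ(σ.Wi j, ⊤) := (σ.wmap h).appTop.hom

theorem θ_τ {i j : σ.Above} (h : i.1 ≤ j.1) (x : Γ(σ.Wi i, ⊤)) : σ.θ j (σ.τ h x) = σ.θ i x := by
  show ((σ.wmap h).appTop ≫ (σ.wproj j).appTop) x = (σ.wproj i).appTop x
  rw [← Scheme.Hom.comp_appTop, wproj_wmap]

theorem θ_gi (i : σ.Above) (k : σ.K) : σ.θ i (σ.gi i k) = σ.ρ (σ.f k) := by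
  refine Eq.trans ?_ (σ.compat k)
  show ((σ.toW₀ i).appTop ≫ (σ.wproj i).appTop) (σ.g k) = _
  rw [← Scheme.Hom.comp_appTop, wproj_toW₀]

theorem exists_θ_eq (z : Γ(W, ⊤)) : ∃ (i : σ.Above) (x : Γ(σ.Wi i, ⊤)), σ.θ i x = z := by
  let OD := opensDiagram A.D (op σ.i₀) σ.W₀
  haveI hcmp : ∀ j, CompactSpace (OD.obj j) := fun j ↦
    σ.compactSpace_Wi ⟨j.left.unop, j.hom.unop.le⟩
  haveI hqs : ∀ j, QuasiSeparatedSpace (OD.obj j) := fun j ↦
    σ.quasiSeparatedSpace_Wi ⟨j.left.unop, j.hom.unop.le⟩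
  let W' : V.Opens := A.proj σ.i₀ ⁻¹ᵁ σ.W₀
  let c : (W' : Scheme.{u}) ⟶ (W : Scheme.{u}) := (V.isoOfEq σ.preimage_eq).hom
  obtain ⟨j, x, hx⟩ := exists_appTop_π_eq_of_isLimit OD (opensCone A.D A.cone (op σ.i₀) σ.W₀)
    (isLimitOpensCone A.D A.cone A.isLimit (op σ.i₀) σ.W₀) (c.appTop z)
  let i : σ.Above := ⟨j.left.unop, j.hom.unop.le⟩
  haveI : IsIso c.appTop := inferInstanceAs (IsIso (Scheme.Γ.map c.op))
  refine ⟨i, x, (ConcreteCategory.bijective_of_isIso (C := CommRingCat) c.appTop).1 ?_⟩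
  rw [hx]
  show ((σ.wproj i).appTop ≫ c.appTop) x = _
  rw [← Scheme.Hom.comp_appTop]
  congr 3
  refine (cancel_mono (σ.Wi i).ι).mp ?_
  refine ((Category.assoc _ _ _).trans ((congrArg (c ≫ ·) (σ.wproj_ι i)).trans ?_))
  exact (Scheme.isoOfEq_hom_ι_assoc V σ.preimage_eq _).trans (Scheme.Hom.resLE_comp_ι _ _).symm

theorem exists_τ_eq_zero (i : σ.Above) (x : Γ(σ.Wi i, ⊤)) (hx : σ.θ i x = 0) :
    ∃ (j : σ.Above) (h : i.1 ≤ j.1), σ.τ h x = 0 := by
  let OD := opensDiagram A.D (op σ.i₀) σ.W₀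
  let k : Over (op σ.i₀) := Over.mk (homOfLE i.2).op
  haveI : CompactSpace (OD.obj k) := σ.compactSpace_Wi i
  let W' : V.Opens := A.proj σ.i₀ ⁻¹ᵁ σ.W₀
  let c : (W' : Scheme.{u}) ⟶ (W : Scheme.{u}) := (V.isoOfEq σ.preimage_eq).hom
  obtain ⟨l, a, ha⟩ := exists_appTop_map_eq_zero_of_isLimit OD
    (opensCone A.D A.cone (op σ.i₀) σ.W₀)
    (isLimitOpensCone A.D A.cone A.isLimit (op σ.i₀) σ.W₀) (i := k) x (by
      refine Eq.trans ?_ ((congrArg c.appTop hx).trans (map_zero _))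
      show _ = ((σ.wproj i).appTop ≫ c.appTop) x
      rw [← Scheme.Hom.comp_appTop]
      congr 3
      refine (cancel_mono (σ.Wi i).ι).mp ?_
      refine (Scheme.Hom.resLE_comp_ι _ _).trans ?_
      refine Eq.trans ?_ ((Category.assoc _ _ _).trans (congrArg (c ≫ ·) (σ.wproj_ι i))).symm
      exact (Scheme.isoOfEq_hom_ι_assoc V σ.preimage_eq _).symm)
  exact ⟨⟨l.left.unop, l.hom.unop.le⟩, a.left.unop.le, ha⟩

theorem exists_pow_mul_eq_ρ [IsOpenImmersion e] (z : Γ(W, ⊤)) (k : σ.K) :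
    ∃ (m : ℕ) (r : R), σ.ρ r = σ.ρ (σ.f k) ^ m * z := by
  let Dk : (Spec R).Opens := PrimeSpectrum.basicOpen (σ.f k)
  let gk : Γ(W, ⊤) := σ.ρ (σ.f k)
  have hDk : Dk ≤ e.opensRange := (Set.subset_iUnion _ k).trans σ.range_eq.ge
  haveI := e.isIso_app Dk hDk
  have heq : e ⁻¹ᵁ Dk = (W : Scheme.{u}).basicOpen gk := preimage_basicOpen_SpecMap e (σ.f k)
  haveI : CompactSpace (W : Scheme.{u}) := by
    haveI := A.isAffineHom_proj σ.i₀
    exact isCompact_iff_compactSpace.mp (σ.preimage_eq ▸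
      QuasiCompact.isCompact_preimage (f := A.proj σ.i₀) _ σ.W₀.2 σ.isCompact)
  haveI := A.quasiSeparatedSpace_pt
  haveI : QuasiSeparatedSpace (W : Scheme.{u}) :=
    (isQuasiSeparated_iff_quasiSeparatedSpace _ W.2).mp (.of_quasiSeparatedSpace _)
  let res : Γ(W, ⊤) →+* Γ(W, e ⁻¹ᵁ Dk) := ((W : Scheme.{u}).presheaf.map (homOfLE le_top).op).hom
  obtain ⟨w, hw⟩ := (ConcreteCategory.bijective_of_isIso (C := CommRingCat) (e.app Dk)).2 (res z)
  letI : Algebra R ((Spec.structureSheaf R).obj.obj (op (PrimeSpectrum.basicOpen (σ.f k)))) :=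
    StructureSheaf.openAlgebra R (op (PrimeSpectrum.basicOpen (σ.f k)))
  haveI : IsLocalization.Away (σ.f k)
      ((Spec.structureSheaf R).obj.obj (op (PrimeSpectrum.basicOpen (σ.f k)))) :=
    StructureSheaf.IsLocalization.to_basicOpen R (σ.f k)
  obtain ⟨⟨r, ⟨_, m, rfl⟩⟩, hr⟩ := IsLocalization.surj (Submonoid.powers (σ.f k))
    (show (Spec.structureSheaf R).obj.obj (op (PrimeSpectrum.basicOpen (σ.f k))) from w)
  let al : R →+* Γ(Spec R, Dk) :=
    ((Scheme.ΓSpecIso R).inv ≫ (Spec R).presheaf.map (homOfLE le_top).op).hom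
  have hal : ∀ a, e.app Dk (al a) = res (σ.ρ a) := fun a ↦ by
    show ((Spec R).presheaf.map (homOfLE le_top).op ≫ e.app Dk) ((Scheme.ΓSpecIso R).inv a) = _
    rw [e.naturality]
    rfl
  have h1 : res (σ.ρ r - σ.ρ (σ.f k) ^ m * z) = 0 := by
    have hr' : w * al (σ.f k ^ m) = al r := hr
    have := congrArg (e.app Dk) hr'
    rw [map_mul, hal, hal, hw, map_pow] at this
    rw [map_sub, sub_eq_zero, map_mul, ← this, mul_comm, map_pow]
  obtain ⟨n, hn⟩ := exists_pow_mul_eq_zero_of_res_basicOpen_eq_zero_of_isCompact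
    (W : Scheme.{u}) (U := ⊤) CompactSpace.isCompact_univ
    (σ.ρ r - σ.ρ (σ.f k) ^ m * z) gk (by
      have := congrArg ((W : Scheme.{u}).presheaf.map (homOfLE heq.ge).op) h1
      rw [map_zero] at this
      refine Eq.trans ?_ this
      show _ = ((W : Scheme.{u}).presheaf.map _ ≫ (W : Scheme.{u}).presheaf.map _) _
      rw [← Functor.map_comp]
      rfl)
  refine ⟨n + m, σ.f k ^ n * r, ?_⟩
  rw [map_mul, map_pow, pow_add, mul_assoc, ← sub_eq_zero, ← mul_sub]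
  exact hn

theorem exists_pow_mul_eq_zero_of_ρ (k : σ.K) [IsOpenImmersion e] (r : R) (hr : σ.ρ r = 0) :
    ∃ n : ℕ, σ.f k ^ n * r = 0 := by
  let Dk : (Spec R).Opens := PrimeSpectrum.basicOpen (σ.f k)
  have hDk : Dk ≤ e.opensRange := (Set.subset_iUnion _ k).trans σ.range_eq.ge
  haveI := e.isIso_app Dk hDk
  let al : R →+* Γ(Spec R, Dk) :=
    ((Scheme.ΓSpecIso R).inv ≫ (Spec R).presheaf.map (homOfLE le_top).op).hom
  have h1 : al r = 0 := by
    refine (ConcreteCategory.bijective_of_isIso (C := CommRingCat) (e.app Dk)).1 ?_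
    rw [map_zero]
    show ((Spec R).presheaf.map (homOfLE le_top).op ≫ e.app Dk) ((Scheme.ΓSpecIso R).inv r) = _
    rw [e.naturality]
    show (W : Scheme.{u}).presheaf.map _ (σ.ρ r) = 0
    rw [hr, map_zero]
  letI : Algebra R ((Spec.structureSheaf R).obj.obj (op (PrimeSpectrum.basicOpen (σ.f k)))) :=
    StructureSheaf.openAlgebra R (op (PrimeSpectrum.basicOpen (σ.f k)))
  haveI : IsLocalization.Away (σ.f k)
      ((Spec.structureSheaf R).obj.obj (op (PrimeSpectrum.basicOpen (σ.f k)))) :=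
    StructureSheaf.IsLocalization.to_basicOpen R (σ.f k)
  obtain ⟨⟨_, n, rfl⟩, hn⟩ := (IsLocalization.map_eq_zero_iff (Submonoid.powers (σ.f k))
    ((Spec.structureSheaf R).obj.obj (op (PrimeSpectrum.basicOpen (σ.f k)))) r).mp h1
  exact ⟨n, hn⟩

end Setup

end

end NoethApproxLib
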