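import Groth.Agent.NoethApproxLib.Ext

/-!
# The step: adding an affine open
-/

set_option autoImplicit false

universe u

open CategoryTheory CategoryTheory.Limits AlgebraicGeometry Opposite TopologicalSpace

namespace NoethApproxLib

noncomputable section

variable {V S : Scheme.{u}} {A : Approx V} (j : V ⟶ S) [IsOpenImmersion j] {U : S.Opens}
  (hU : IsAffineOpen U)

/-- The map of the overlap into the affine piece. -/
def overlap : ((j ⁻¹ᵁ U : V.Opens) : Scheme.{u}) ⟶ Spec Γ(S, U) := (j ∣_ U) ≫ hU.isoSpec.hom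

instance : IsOpenImmersion (overlap j hU) :=
  haveI : IsOpenImmersion (j ∣_ U) := inferInstance
  inferInstanceAs (IsOpenImmersion ((j ∣_ U) ≫ hU.isoSpec.hom))

theorem overlap_fromSpec : overlap j hU ≫ hU.fromSpec = (j ⁻¹ᵁ U).ι ≫ j := by
  rw [overlap, Category.assoc, IsAffineOpen.isoSpec_hom, IsAffineOpen.toSpecΓ_fromSpec,
    morphismRestrict_ι]

include A in
theorem isCompact_overlap (hU : IsAffineOpen U) [QuasiSeparatedSpace S] :
    IsCompact ((j ⁻¹ᵁ U : V.Opens) : Set V) := by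
  haveI := A.compactSpace
  rw [j.isOpenEmbedding.isEmbedding.isCompact_iff]
  have h : j '' ((j ⁻¹ᵁ U : V.Opens) : Set V) = Set.range j ∩ (U : Set S) :=
    (Set.image_preimage_eq_inter_range).trans (Set.inter_comm _ _)
  rw [h]
  exact QuasiSeparatedSpace.inter_isCompact _ _ j.isOpenEmbedding.isOpen_range
    (isCompact_range j.continuous) U.2 hU.isCompact

variable (σ : Setup A Γ(S, U) (j ⁻¹ᵁ U) (overlap j hU))
  (hcov : ∀ x : S, x ∈ Set.range j ∨ x ∈ U)

include hcov in
/-- The cover of `S`. -/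
def twoCover : S.OpenCover :=
  Scheme.Cover.mkOfCovers (ULift.{u} Bool)
    (fun b ↦ match b with | ⟨true⟩ => V | ⟨false⟩ => Spec Γ(S, U))
    (fun b ↦ match b with | ⟨true⟩ => j | ⟨false⟩ => hU.fromSpec)
    (fun x ↦ (hcov x).elim (fun ⟨y, hy⟩ ↦ ⟨⟨true⟩, y, hy⟩) (fun hx ↦ by
      obtain ⟨y, hy⟩ := hU.range_fromSpec.ge hx
      exact ⟨⟨false⟩, y, hy⟩))
    (fun b ↦ match b with | ⟨true⟩ => ‹_› | ⟨false⟩ => inferInstanceAs (IsOpenImmersion hU.fromSpec))

theorem overlap_compat (M : σ.Model) {T : Scheme.{u}} (a : T ⟶ V) (b : T ⟶ Spec Γ(S, U))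
    (h : a ≫ j = b ≫ hU.fromSpec) :
    a ≫ A.proj M.i.1 ≫ σ.gl M = b ≫ Spec.map (σ.toR M) ≫ σ.gr M := by
  have hr : Set.range a ⊆ Set.range (j ⁻¹ᵁ U).ι := by
    rintro _ ⟨x, rfl⟩
    rw [Scheme.Opens.range_ι]
    show j (a x) ∈ U
    rw [← Scheme.Hom.comp_apply, h]
    exact hU.range_fromSpec.le ⟨b x, rfl⟩
  let l := IsOpenImmersion.lift (j ⁻¹ᵁ U).ι a hr
  have hl : l ≫ (j ⁻¹ᵁ U).ι = a := IsOpenImmersion.lift_fac _ _ _
  have hb : l ≫ overlap j hU = b := by
    rw [← cancel_mono hU.fromSpec, Category.assoc, overlap_fromSpec, ← Category.assoc, hl, h]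
  rw [← hl, ← hb, Category.assoc, Category.assoc, ← Category.assoc (j ⁻¹ᵁ U).ι, ← σ.wproj_ι,
    Category.assoc, pushout.condition, ← Category.assoc (σ.wproj M.i), σ.wproj_emb]
  simp only [Category.assoc]

/-- The projection to a glued stage. -/
def proj' (M : σ.Model) : S ⟶ σ.glued M :=
  (twoCover j hU hcov).glueMorphisms
    (fun b ↦ match b with
      | ⟨true⟩ => A.proj M.i.1 ≫ σ.gl M
      | ⟨false⟩ => Spec.map (σ.toR M) ≫ σ.gr M)
    (fun a b ↦ by
      rcases a with ⟨_ | _⟩ <;> rcases b with ⟨_ | _⟩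
      · exact congrArg (· ≫ _) ((cancel_mono hU.fromSpec).mp pullback.condition)
      · exact (overlap_compat j hU σ M _ _ pullback.condition.symm).symm
      · exact overlap_compat j hU σ M _ _ pullback.condition
      · exact congrArg (· ≫ _) ((cancel_mono j).mp pullback.condition))

theorem j_proj' (M : σ.Model) : j ≫ proj' j hU σ hcov M = A.proj M.i.1 ≫ σ.gl M :=
  Scheme.Cover.ι_glueMorphisms (twoCover j hU hcov) _ _ (⟨true⟩ : ULift.{u} Bool)

theorem fromSpec_proj' (M : σ.Model) :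
    hU.fromSpec ≫ proj' j hU σ hcov M = Spec.map (σ.toR M) ≫ σ.gr M :=
  Scheme.Cover.ι_glueMorphisms (twoCover j hU hcov) _ _ (⟨false⟩ : ULift.{u} Bool)

theorem proj'_gmap {M N : σ.Model} (h : M ≤ N) :
    proj' j hU σ hcov N ≫ σ.gmap h = proj' j hU σ hcov M := by
  refine (twoCover j hU hcov).hom_ext _ _ fun b ↦ ?_
  rcases b with ⟨_ | _⟩
  · show hU.fromSpec ≫ _ = hU.fromSpec ≫ _
    rw [← Category.assoc, fromSpec_proj', fromSpec_proj', Category.assoc, σ.gr_gmap,
      ← Category.assoc, ← Spec.map_comp, σ.ringMap_toR]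
  · show j ≫ _ = j ≫ _
    rw [← Category.assoc, j_proj', j_proj', Category.assoc, σ.gl_gmap, ← Category.assoc,
      A.proj_map]

theorem proj'_preimage_gl (M : σ.Model) :
    proj' j hU σ hcov M ⁻¹' Set.range (σ.gl M) = Set.range j := by
  refine Set.Subset.antisymm (fun x hx ↦ ?_) ?_
  · rcases hcov x with h | h
    · exact h
    obtain ⟨y, rfl⟩ := hU.range_fromSpec.ge h
    rw [Set.mem_preimage, ← Scheme.Hom.comp_apply, fromSpec_proj', Scheme.Hom.comp_apply] at hx
    have h1 : Spec.map (σ.toR M) y ∈ Set.range (σ.emb M) := (preimage_range_inl _ _).le hx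
    obtain ⟨k, hk⟩ := Set.mem_iUnion.mp ((σ.emb_aux M).2.le h1)
    obtain ⟨w, rfl⟩ := σ.range_eq.ge (Set.mem_iUnion.mpr ⟨k, hk⟩)
    refine ⟨(j ⁻¹ᵁ U).ι w, ?_⟩
    rw [← Scheme.Hom.comp_apply, ← overlap_fromSpec j hU, Scheme.Hom.comp_apply]
  · rintro _ ⟨x, rfl⟩
    rw [Set.mem_preimage, ← Scheme.Hom.comp_apply, j_proj', Scheme.Hom.comp_apply]
    exact ⟨_, rfl⟩

theorem proj'_preimage_gr (M : σ.Model) :
    proj' j hU σ hcov M ⁻¹' Set.range (σ.gr M) = Set.range hU.fromSpec := by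
  refine Set.Subset.antisymm (fun x hx ↦ ?_) ?_
  · rcases hcov x with ⟨y, rfl⟩ | h
    · rw [Set.mem_preimage, ← Scheme.Hom.comp_apply, j_proj', Scheme.Hom.comp_apply] at hx
      have h1 : A.proj M.i.1 y ∈ σ.Wi M.i :=
        (σ.Wi M.i).range_ι.le ((preimage_range_inr _ _).le hx)
      exact hU.range_fromSpec.ge ((σ.proj_preimage_Wi M.i).le h1 : y ∈ j ⁻¹ᵁ U)
    · exact hU.range_fromSpec.ge h
  · rintro _ ⟨x, rfl⟩
    rw [Set.mem_preimage, ← Scheme.Hom.comp_apply, fromSpec_proj', Scheme.Hom.comp_apply]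
    exact ⟨_, rfl⟩

/-- The cone on the glued diagram. -/
def gluedπ : (Functor.const σ.Modelᵒᵖ).obj S ⟶ σ.gluedDiag where
  app M := proj' j hU σ hcov M.unop
  naturality M N a :=
    (Category.id_comp _).trans (proj'_gmap j hU σ hcov (leOfHom a.unop)).symm

/-- The index map. -/
def index : σ.Model →o A.J := ⟨fun M ↦ M.i.1, fun _ _ h ↦ h.choose⟩

theorem final_index : (index j hU σ).monotone.functor.Final := by
  rw [Monotone.final_functor_iff]
  intro i
  obtain ⟨i', h₁, h₂⟩ := exists_ge_ge i σ.i₀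
  obtain ⟨M, hM, -⟩ := σ.exists_model_ge ⟨i', h₂⟩ ∅ Set.finite_empty (Set.empty_subset _)
  exact ⟨M, h₁.trans (congrArg Subtype.val hM).ge⟩

/-- The piece over the old open. -/
def pieceOld : Piece (Cone.mk S (gluedπ j hU σ hcov)) where
  F := (index j hU σ).monotone.functor.op ⋙ A.D
  ι :=
    { app := fun M ↦ σ.gl M.unop
      naturality := fun M N a ↦ (σ.gl_gmap (leOfHom a.unop)).symm }
  isOpenImmersion M := inferInstanceAs (IsOpenImmersion (σ.gl M.unop))
  preimage_range a := σ.preimage_range_gl (leOfHom a.unop)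
  cone := A.cone.whisker (index j hU σ).monotone.functor.op
  isLimit :=
    haveI := final_index j hU σ
    (Functor.Initial.isLimitWhiskerEquiv _ A.cone).symm A.isLimit
  p := j
  isOpenImmersion_p := ‹_›
  range_p M := (proj'_preimage_gl j hU σ hcov M.unop).symm
  fac M := j_proj' j hU σ hcov M.unop

/-- The piece over the affine open. -/
def pieceNew : Piece (Cone.mk S (gluedπ j hU σ hcov)) where
  F := σ.ringDiag.op ⋙ Scheme.Spec
  ι :=
    { app := fun M ↦ σ.gr M.unop
      naturality := fun M N a ↦ (σ.gr_gmap (leOfHom a.unop)).symm }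
  isOpenImmersion M := inferInstanceAs (IsOpenImmersion (σ.gr M.unop))
  preimage_range a := σ.preimage_range_gr (leOfHom a.unop)
  cone := Scheme.Spec.mapCone σ.ringCocone.op
  isLimit := isLimitOfPreserves Scheme.Spec σ.isColimit_ringCocone.some.op
  p := hU.fromSpec
  isOpenImmersion_p := inferInstanceAs (IsOpenImmersion hU.fromSpec)
  range_p M := (proj'_preimage_gr j hU σ hcov M.unop).symm
  fac M := fromSpec_proj' j hU σ hcov M.unop

theorem nonempty_isLimit_glued : Nonempty (IsLimit (Cone.mk S (gluedπ j hU σ hcov))) :=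
  nonempty_isLimit_of_pieces
    (fun b : ULift.{u} Bool ↦ cond b.down (pieceOld j hU σ hcov) (pieceNew j hU σ hcov))
    fun M x ↦ (glue_cases _ _ x).elim (fun h ↦ ⟨⟨true⟩, h⟩) (fun h ↦ ⟨⟨false⟩, h⟩)

/-- The approximation of the union. -/
def gluedApprox : Approx S where
  J := σ.Model
  D := σ.gluedDiag
  π := gluedπ j hU σ hcov
  isLimit := (nonempty_isLimit_glued j hU σ hcov).some
  affine a := σ.isAffineHom_gmap (leOfHom a.unop)
  compact M :=
    haveI : CompactSpace (Spec (σ.ring M.unop)) := inferInstance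
    compactSpace_pushout (σ.Wi M.unop.i).ι (σ.emb M.unop)
  lft M := σ.lft_glued M.unop

/-- The extension across an affine open. -/
def gluedExt : Ext A j where
  B := gluedApprox j hU σ hcov
  α := index j hU σ
  inl M := σ.gl M
  isOpenImmersion := fun (M : σ.Model) ↦ inferInstanceAs (IsOpenImmersion (σ.gl M))
  nat h := (σ.gl_gmap h).symm
  preimage_range h := σ.preimage_range_gl h
  fac M := j_proj' j hU σ hcov M
  proj_preimage M := proj'_preimage_gl j hU σ hcov M

theorem nonempty_ext [QuasiSeparatedSpace S] (hU : IsAffineOpen U)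
    (hcov : ∀ x : S, x ∈ Set.range j ∨ x ∈ U) : Nonempty (Ext A j) :=
  (exists_setup A (j ⁻¹ᵁ U) (isCompact_overlap (A := A) j hU) (overlap j hU)).map
    fun σ ↦ gluedExt j hU σ hcov

end

end NoethApproxLib
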